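import Cfsg.Agent.H928.Ore.TwS_m3
import Cfsg.Agent.ChevalleyStructure.D4H1
import Cfsg.Agent.H194.Ore.RowThree_m3
import Cfsg.Agent.S1070
import Cfsg.Agent.S1054
import Cfsg.Agent.H841.TwG_m3
import Cfsg.Agent.ChevFast.E6
import Cfsg.Agent.ChevFast.Lin
import Cfsg.Agent.FastGrp
import Cfsg.Agent.Prune
set_option linter.all false
prune_inst 0x7ffdfdf8ffbcf7ffffff7e7ffed7ddfc39d7dfffacdfff4b3fe0a1ef8fdf238a1de5638d9de050ff1fe3c2be10a87843fbffffffee6bfc7ffffdfdf41ffbee4fe5f6b50971de8cb40f380fff83f077ce7f3fffffffffffffffffffffffffffbeffffffffffff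
open scoped Cfsg.Agent.FastGrp

-- part: H928/Ore/TwF
section
/-!
The block and the involution of `²E₆(q)` (S2443, S4171).

* `exists_f` : the homomorphism `f : SL₃(k) → ²E₆(q)` of the block `{1, 3}`; `f_LJ`, `up_f`, `lo_f`;
* `exists_z` : an involution `z ∈ ²E₆(q)` over the longest element.
-/

set_option autoImplicit false
set_option linter.unusedSectionVars false

namespace Cfsg.Agent.H928.Ore.TwF

open CoxeterSystem Cfsg.Agent.ChevalleyStructure.CoxeterGeom Cfsg.Agent.Tits.Roots Cfsg.Agent.Tits.Core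
  Cfsg.Agent.Nodes Cfsg.Agent.Nodes.Reps Cfsg.Agent.Nodes.BNOf Cfsg.Agent.Nodes.RGDLib Cfsg.Agent.Nodes.Bruhat
  Cfsg.Agent.Nodes.OppDec Cfsg.Agent.Nodes.LeviDec Cfsg.Agent.Nodes.StabComb Cfsg.Agent.Nodes.KindChev
  Cfsg.Agent.Nodes.ChevCls
  Cfsg.Agent.OddHalf.NI.ModelChev
  Cfsg.Agent.H162.GaussDec Cfsg.Agent.H162.GaussLevi Cfsg.Agent.H162.GaussSL Cfsg.Agent.H162.GaussReg
  Cfsg.Agent.H928.Ore.Frame Cfsg.Agent.H928.Ore.Fix Cfsg.Agent.H928.Ore.Block Cfsg.Agent.H928.Ore.TwE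
  Cfsg.Agent.H928.Ore.TwS
open Cfsg.Lie Cfsg.Agent.ChevalleyStructure Cfsg.Agent.ChevalleyStructure.Elts
  Cfsg.Agent.ChevalleyStructure.NPerm
  Cfsg.Agent.ChevalleyStructure.CoxeterGeomTypes Cfsg.Agent.Nodes.RGDChev Cfsg.Agent.KFacts.RgdChevCoord
open Cfsg.Agent.Nodes.RGDTwGen Cfsg.Agent.Nodes.RGDFold Cfsg.Agent.Nodes.RGDTwE6
open Cfsg.Agent.Nodes.RGDFoldSL (Fx mem_Fx)
open Cfsg.Agent.ChevalleyStructure.TwistedU Cfsg.Agent.ChevalleyStructure.TwistedFix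
open Cfsg.Agent.ChevalleyStructure.TwE6Basic (sg hE6 epsE)
open Cfsg.Agent.FixBN.FieldRGD (uu vv dd ww)
open Cfsg.Agent.H162.GaussExcMain (r6 rt6 chk6 chk6' chk6'' exists_hom_D w6)
open Cfsg.Agent.H162.GaussExc (fr fr_vec)
open Cfsg.Agent.H335.Sr
open Cfsg.Agent.H162.GaussPQ (tv_mem_UT tv_mem_LT)
open scoped MatrixGroups

universe u

/-! ### The tables -/

theorem rlt : ∀ a b, a ≠ b → r6 a b < 72 := by decide +kernel

theorem rho_r6 : ∀ a b, a ≠ b → H91.E6Fix.rho (r6 a b) = r6 a b ∧ ∀ h, epsE ⟨r6 a b, h⟩ = 1 := by decide +kernel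

theorem V_r6 : ∀ a b : Fin 3, a ≠ b → V chevE6 J (r6 a b) 2 = 0 ∧ V chevE6 J (r6 a b) 3 = 0 := by decide +kernel

theorem V_sub : ∀ s : Fin 72, V chevE6 J s 2 = 0 → V chevE6 J s 3 = 0 → ∃ a b : Fin 3, a ≠ b ∧ r6 a b = s ∧
    (a < b → ∃ k, 0 < V chevE6 J s k) ∧ (b < a → ∃ k, V chevE6 J s k < 0) ∧
    ∀ s' : Fin 72, V chevE6 J s' = V chevE6 J s → s' = s := by decide +kernel

theorem w6_simple : ∀ i : Fin 6, fr chevE6 w6 (chevE6.simple i) = chevE6.neg (chevE6.simple (ga i)) := by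
  (delta Cfsg.Agent.H162.GaussExc.fr Cfsg.Lie.ChevalleyDatum.chainRoot Cfsg.Lie.ChevalleyDatum.reflectRoot; rewrite [Cfsg.Agent.ChevFast.E6.cartan, Cfsg.Agent.ChevFast.E6.chainEntry, Cfsg.Agent.ChevFast.E6.neg]; open scoped Cfsg.Agent.ChevFast.Lin in decide +kernel)

theorem map_tv {R S : Type*} [Field R] [Field S] (g : R →+* S) {n : ℕ} {a b : Fin n} (hab : a ≠ b) (c : R) :
    Matrix.SpecialLinearGroup.map g (Matrix.SpecialLinearGroup.transvection hab c) =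
      Matrix.SpecialLinearGroup.transvection hab (g c) := by
  apply Subtype.ext
  change ((1 + Matrix.single a b c : Matrix (Fin n) (Fin n) R)).map g = 1 + Matrix.single a b (g c)
  ext i j
  rw [Matrix.map_apply, Matrix.add_apply, Matrix.add_apply, map_add]
  congr 1
  · by_cases h : i = j
    · subst h; simp
    · simp [h]
  · rw [Matrix.single_apply, Matrix.single_apply]
    split_ifs <;> simp

section

variable {K : Type u} [Field K] [Fintype K] {φ : K →+* K} {q : ℕ} (hφ : ∀ t, φ t = t ^ q)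
  (hqq : ∀ t : K, (t ^ q) ^ q = t)

include hφ hqq

/-! ### The involution -/

theorem exists_z (hZ : Subgroup.center ↥(chevE6.group K) = ⊥) :
    ∃ z : ↥(twistedE6 K q), ZD RGDTwE6.hp CoxeterMatrix.E₆.toCoxeterSystem
      (CoxeterMatrix.E₆.toCoxeterSystem.wordProd w6) ga (fun _ => 1) (inc K q z) := by
  obtain ⟨p, hpc⟩ := CharP.exists K
  have : Fact p.Prime := ⟨(CharP.char_is_prime_or_zero K p).resolve_right (CharP.char_ne_zero_of_finite K p)⟩
  have R := RGDChev.rgd (K := K) RGDTwE6.hp CoxeterMatrix.E₆.toCoxeterSystem p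
  have hw : ∀ i, rep CoxeterMatrix.E₆.toCoxeterSystem RGDTwE6.hp.isCartan
      (CoxeterMatrix.E₆.toCoxeterSystem.wordProd w6) (sr i) = -sr (ga i) := by
    intro i
    have hi := simple_lt RGDTwE6.hp.inList (lt_rank RGDTwE6.hp i)
    rw [← vec_simple RGDTwE6.hp i, ← fr_vec RGDTwE6.hp _ w6 hi, w6_simple i,
      vec_neg RGDTwE6.hp (simple_lt RGDTwE6.hp.inList (lt_rank RGDTwE6.hp (ga i))), vec_simple RGDTwE6.hp (ga i)]
  obtain ⟨z, Z⟩ := exists_ZD (K := K) RGDTwE6.hp CoxeterMatrix.E₆.toCoxeterSystem R.nsys (γ := ga) ga_ga hw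
    H129.TorusChar.invC_E6 (by decide) (fun _ => 1) (fun _ => .inl rfl) (fun _ => rfl)
  have hφφ : ∀ t : K, φ (φ t) = t := fun t => by rw [hφ, hφ, hqq]
  have h1 : sgY φ z = z := by
    refine _root_.Cfsg.Agent.H928.Ore.TwE.ext_simple RGDTwE6.hp hZ (fun i t => ?_) (fun i t => ?_)
    · have e1 := sgY_pos φ (ga i) (φ t)
      rw [ga_ga, hφφ] at e1
      rw [Z.pos i t, ← e1, ← map_inv, ← map_mul, ← map_mul, Z.pos (ga i) (φ t), ga_ga, sgY_neg, map_mul, map_intCast,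
        hφφ]
    · have e1 := sgY_neg φ (ga i) (φ t)
      rw [ga_ga, hφφ] at e1
      rw [Z.neg i t, ← e1, ← map_inv, ← map_mul, ← map_mul, Z.neg (ga i) (φ t), ga_ga, sgY_pos, map_mul, map_intCast,
        hφφ]
  obtain ⟨g, rfl⟩ := exists_inc hφ hqq h1
  exact ⟨g, Z⟩

/-! ### The block -/

theorem exists_f {P : Matrix.SpecialLinearGroup (Fin 3) K →* ↥(chevE6.group K)}
    (hP : ∀ a b (hab : a ≠ b) c, P (Matrix.SpecialLinearGroup.transvection hab c) =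
      xc RGDTwE6.hp (vec chevE6 6 (r6 a b)) (((1 : ℤ) : K) * c)) :
    ∃ f : Matrix.SpecialLinearGroup (Fin 3) (Fx φ 1) →* ↥(twistedE6 K q), ∀ A,
      inc K q (f A) = P (Matrix.SpecialLinearGroup.map (Fx φ 1).subtype A) := by
  have h1 : ∀ A : Matrix.SpecialLinearGroup (Fin 3) (Fx φ 1),
      sgY φ (P (Matrix.SpecialLinearGroup.map (Fx φ 1).subtype A)) =
        P (Matrix.SpecialLinearGroup.map (Fx φ 1).subtype A) := by
    have h2 : (sgY φ).comp (P.comp (Matrix.SpecialLinearGroup.map (Fx φ 1).subtype)) =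
        P.comp (Matrix.SpecialLinearGroup.map (Fx φ 1).subtype) := by
      refine hom_ext fun a b hab c => ?_
      change sgY φ (P (Matrix.SpecialLinearGroup.map (Fx φ 1).subtype _)) =
        P (Matrix.SpecialLinearGroup.map (Fx φ 1).subtype _)
      have hc : φ (c : K) = c := mem_Fx.1 c.2
      rw [map_tv, hP, sgY_xc φ (rlt a b hab), (rho_r6 a b hab).1, (rho_r6 a b hab).2]
      congr 1
      rw [Int.cast_one, one_mul, one_mul]
      exact hc
    exact fun A => DFunLike.congr_fun h2 A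
  refine ⟨((chevE6.group K).subtype.comp (P.comp (Matrix.SpecialLinearGroup.map (Fx φ 1).subtype))).codRestrict
    (twistedE6 K q) (fun A => ?_), fun A => rfl⟩
  refine H91.E6Fix.mem_twisted_of_fixed hφ (fun t => by rw [hφ, hφ, hqq])
    (P (Matrix.SpecialLinearGroup.map (Fx φ 1).subtype A)).2 ?_
  exact congrArg Subtype.val (h1 A)

variable {P : Matrix.SpecialLinearGroup (Fin 3) K →* ↥(chevE6.group K)}
    (hP : ∀ a b (hab : a ≠ b) c, P (Matrix.SpecialLinearGroup.transvection hab c) =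
      xc RGDTwE6.hp (vec chevE6 6 (r6 a b)) (((1 : ℤ) : K) * c))
    {f : Matrix.SpecialLinearGroup (Fin 3) (Fx φ 1) →* ↥(twistedE6 K q)}
    (hf : ∀ A, inc K q (f A) = P (Matrix.SpecialLinearGroup.map (Fx φ 1).subtype A))
    {W : Type*} [Group W] (cs : CoxeterSystem CoxeterMatrix.F₄ W)

include hP hf

omit hφ hqq [Fintype K] in
theorem f_tv {a b : Fin 3} (hab : a ≠ b) (c : Fx φ 1) :
    inc K q (f (Matrix.SpecialLinearGroup.transvection hab c)) = xc RGDTwE6.hp (vec chevE6 6 (r6 a b)) (c : K) := by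
  rw [hf, map_tv, hP, Int.cast_one, one_mul]
  rfl

theorem f_X {a b : Fin 3} (hab : a ≠ b) (c : Fx φ 1) :
    f (Matrix.SpecialLinearGroup.transvection hab c) ∈ X φ q (V chevE6 J (r6 a b)) := by
  have h1 := congrArg (Subtype.val) (f_tv hP hf hab c)
  rw [coe_xc RGDTwE6.hp (rlt a b hab)] at h1
  refine Subgroup.mem_subgroupOf.2 ⟨?_, ?_⟩
  · have h2 : ((f (Matrix.SpecialLinearGroup.transvection hab c) : ↥(twistedE6 K q)) : GL chevE6.Idx K) =
        xG RGDTwE6.hp.inList (r6 a b) (c : K) := h1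
    rw [h2]
    exact mem_rspan (xG (F := K) RGDTwE6.hp.inList) (S := {k | k < chevE6.nroots ∧ V chevE6 J k = V chevE6 J (r6 a b)})
      ⟨rlt a b hab, rfl⟩ _
  · exact TwE6Basic.twisted_le_fix φ hφ hqq (f (Matrix.SpecialLinearGroup.transvection hab c)).2

theorem f_LJ (A : Matrix.SpecialLinearGroup (Fin 3) (Fx φ 1)) :
    f A ∈ LJ cs RGDTwE6.isCartan (T K q) (X φ q) JR := by
  have h1 : (⊤ : Subgroup (Matrix.SpecialLinearGroup (Fin 3) (Fx φ 1))) ≤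
      (LJ cs RGDTwE6.isCartan (T K q) (X φ q) JR).comap f := by
    rw [← Cfsg.Agent.LieClassical.SLGen.closure_transvections, Subgroup.closure_le]
    rintro _ ⟨a, b, hab, c, rfl⟩
    change f _ ∈ LJ cs RGDTwE6.isCartan (T K q) (X φ q) JR
    refine X_le_LJ (J := JR) (x := V chevE6 J (r6 a b)) ⟨RGDTwComE6.isRoot_V (rlt a b hab), fun k hk => ?_⟩
      (f_X hφ hqq hP hf hab c)
    have hk' : k = 2 ∨ k = 3 := by
      have h : ∀ k : Fin 4, ¬ (k = 0 ∨ k = 1) → k = 2 ∨ k = 3 := by decide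
      exact h k hk
    rcases hk' with rfl | rfl
    · exact (V_r6 a b hab).1
    · exact (V_r6 a b hab).2
  exact h1 (Subgroup.mem_top A)

theorem X_eq_f {z : Fin 4 → ℤ} (hz : IsRoot cs RGDTwE6.isCartan z) (h2 : ∀ k, k ∉ JR → z k = 0) :
    ∃ a b : Fin 3, ∃ hab : a ≠ b, (a < b → ∃ k, 0 < z k) ∧ (b < a → ∃ k, z k < 0) ∧
      ∀ y ∈ X φ q z, ∃ c : Fx φ 1, y = f (Matrix.SpecialLinearGroup.transvection hab c) := by
  obtain ⟨i, hi, e, hiz⟩ := RGDTwActE6.index (cs := cs) hz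
  have hlt : (RGDTwCoordE6.O.getD i []).headD 0 < 72 := by
    have h : ∀ i < 48, (RGDTwCoordE6.O.getD i []).headD 0 < 72 := by decide +kernel
    exact h i hi
  have hk2 : z 2 = 0 := h2 2 (by rintro (h | h) <;> exact absurd h (by decide))
  have hk3 : z 3 = 0 := h2 3 (by rintro (h | h) <;> exact absurd h (by decide))
  obtain ⟨a, b, hab, hr, hp1, hp2, huniq⟩ := V_sub ⟨_, hlt⟩ (by
    change V chevE6 J ((RGDTwCoordE6.O.getD i []).headD 0) 2 = 0
    rw [hiz]; exact hk2) (by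
    change V chevE6 J ((RGDTwCoordE6.O.getD i []).headD 0) 3 = 0
    rw [hiz]; exact hk3)
  have hr' : r6 a b = (RGDTwCoordE6.O.getD i []).headD 0 := hr
  refine ⟨a, b, hab, fun h => ?_, fun h => ?_, fun y hy => ?_⟩
  · obtain ⟨k, hk⟩ := hp1 h
    refine ⟨k, ?_⟩
    rw [← hiz]
    exact hk
  · obtain ⟨k, hk⟩ := hp2 h
    refine ⟨k, ?_⟩
    rw [← hiz]
    exact hk
  · have h3 : y ∈ (XX chevE6 6 K (vec chevE6 6 (r6 a b))).comap (inc K q) := by
      refine X_le (φ := φ) (z := z) (fun r hr1 hr2 => ?_) hy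
      have h4 : (⟨r, hr1⟩ : Fin 72) = ⟨_, hlt⟩ := huniq ⟨r, hr1⟩ (hr2.trans hiz.symm)
      have h5 : r = r6 a b := by
        rw [hr']
        exact congrArg Fin.val h4
      rw [h5]
    obtain ⟨c, hc⟩ := (mem_XX RGDTwE6.hp (rlt a b hab) _).1 h3
    have h6 := sgY_inc hφ hqq y
    rw [hc, sgY_xc φ (rlt a b hab), (rho_r6 a b hab).1, (rho_r6 a b hab).2, Int.cast_one, one_mul] at h6
    have h7 := xc_inj RGDTwE6.hp (rlt a b hab) h6
    refine ⟨⟨c, mem_Fx.2 h7⟩, ?_⟩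
    apply inc_injective q
    rw [f_tv hP hf, hc]

theorem up_f : UJ cs RGDTwE6.isCartan (X φ q) JR ≤ (UT 3 (Fx φ 1)).map f := by
  refine RGD.Sup_le fun z hz => ?_
  obtain ⟨a, b, hab, -, h2, h3⟩ := X_eq_f hφ hqq hP hf cs hz.1 hz.2.2
  have hlt : a < b := by
    rcases lt_or_gt_of_ne hab with h | h
    · exact h
    · obtain ⟨k, hk⟩ := h2 h
      exact absurd (hz.2.1 k) (not_le.2 hk)
  intro y hy
  obtain ⟨c, rfl⟩ := h3 y hy
  exact ⟨_, tv_mem_UT hab hlt _, rfl⟩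

theorem lo_f : UNJ cs RGDTwE6.isCartan (X φ q) JR ≤ (_root_.Cfsg.Agent.H162.GaussSL.LT 3 (Fx φ 1)).map f := by
  refine RGD.Sup_le fun z hz => ?_
  have hz' : IsRoot cs RGDTwE6.isCartan z := by
    have := hz.1.neg
    rwa [_root_.neg_neg] at this
  obtain ⟨a, b, hab, h1, -, h3⟩ := X_eq_f hφ hqq hP hf cs hz' (fun k hk => by
    have := hz.2.2 k hk
    simpa using this)
  have hlt : b < a := by
    rcases lt_or_gt_of_ne hab with h | h
    · obtain ⟨k, hk⟩ := h1 h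
      have h3 : 0 ≤ - z k := hz.2.1 k
      omega
    · exact h
  intro y hy
  obtain ⟨c, rfl⟩ := h3 y hy
  exact ⟨_, tv_mem_LT hab hlt _, rfl⟩

end

end Cfsg.Agent.H928.Ore.TwF
end

-- part: H928/Ore/TwN
section
/-!
Fixed points, action of the involution in `²E₆(q)` (S2443, S4171).

* `nfA` : `s₀ φ(X)` has no fixed points on the unipotent radicals, `X ∈ SL₃(K)` with irreducible characteristic polynomial;
* `irr_map` : an irreducible cubic over the fixed field `k` is irreducible over `K`;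
* `z_sl`, `z_f` : the action of the involution `z`;
* `exists_norm_one` : an element of norm one and order at least three.
-/

set_option autoImplicit false
set_option linter.unusedSectionVars false

namespace Cfsg.Agent.H928.Ore.TwN

open CoxeterSystem Cfsg.Agent.ChevalleyStructure.CoxeterGeom Cfsg.Agent.Tits.Roots Cfsg.Agent.Tits.Core
  Cfsg.Agent.Nodes Cfsg.Agent.Nodes.Reps Cfsg.Agent.Nodes.BNOf Cfsg.Agent.Nodes.RGDLib Cfsg.Agent.Nodes.Bruhat
  Cfsg.Agent.Nodes.OppDec Cfsg.Agent.Nodes.LeviDec Cfsg.Agent.Nodes.StabComb Cfsg.Agent.Nodes.KindChev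
  Cfsg.Agent.Nodes.ChevCls
  Cfsg.Agent.OddHalf.NI.ModelChev
  Cfsg.Agent.H162.GaussDec Cfsg.Agent.H162.GaussLevi Cfsg.Agent.H162.GaussSL Cfsg.Agent.H162.GaussReg
  Cfsg.Agent.H928.Ore.Frame Cfsg.Agent.H928.Ore.Fix Cfsg.Agent.H928.Ore.Block Cfsg.Agent.H928.Ore.TwE
  Cfsg.Agent.H928.Ore.TwS Cfsg.Agent.H928.Ore.TwF
open Cfsg.Lie Cfsg.Agent.ChevalleyStructure Cfsg.Agent.ChevalleyStructure.Elts
  Cfsg.Agent.ChevalleyStructure.NPerm
  Cfsg.Agent.ChevalleyStructure.CoxeterGeomTypes Cfsg.Agent.Nodes.RGDChev Cfsg.Agent.KFacts.RgdChevCoord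
open Cfsg.Agent.Nodes.RGDTwGen Cfsg.Agent.Nodes.RGDFold Cfsg.Agent.Nodes.RGDTwE6
open Cfsg.Agent.Nodes.RGDFoldSL (Fx mem_Fx)
open Cfsg.Agent.ChevalleyStructure.TwE6Basic (sg hE6 epsE)
open Cfsg.Agent.FixBN.FieldRGD (uu vv dd ww)
open Cfsg.Agent.H162.GaussExcMain (r6 rt6 chk6 chk6' chk6'' exists_hom_D w6)
open Cfsg.Agent.H162.GaussExc (fr fr_vec)
open Cfsg.Agent.H335.Sr
open Cfsg.Agent.H374.Ore.Nf (Wt nf_dg)
open scoped MatrixGroups

universe u

/-! ### Tables -/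

theorem tab_out : ∀ s : Fin 72, (∃ k : Fin 6, (k ≠ 1 ∧ k ≠ 3) ∧ vec chevE6 6 s k ≠ 0) →
    (chevE6.cartan (3 : Fin 6) s = 0 ∧ chevE6.cartan (1 : Fin 6) s = 0 ∧
      (chevE6.cartan (0 : Fin 6) s - chevE6.cartan (5 : Fin 6) s = 1 ∨
       chevE6.cartan (0 : Fin 6) s - chevE6.cartan (5 : Fin 6) s = -1 ∨
       chevE6.cartan (0 : Fin 6) s - chevE6.cartan (5 : Fin 6) s = 2 ∨
       chevE6.cartan (0 : Fin 6) s - chevE6.cartan (5 : Fin 6) s = -2)) ∨
    Wt (chevE6.cartan (3 : Fin 6) s) (chevE6.cartan (1 : Fin 6) s) := by (rewrite [Cfsg.Agent.ChevFast.E6.cartan]; open scoped Cfsg.Agent.ChevFast.Lin in decide +kernel)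

theorem tab_blk : ∀ a b : Fin 3, a ≠ b → chevE6.cartan (0 : Fin 6) (r6 a b) = 0 ∧
    chevE6.cartan (5 : Fin 6) (r6 a b) = 0 ∧ ∀ k : Fin 6, k ≠ 1 ∧ k ≠ 3 → vec chevE6 6 (r6 a b) k = 0 := by
  decide +kernel

theorem simple_r6 : r6 0 1 = chevE6.simple (3 : Fin 6) ∧ r6 1 2 = chevE6.simple (1 : Fin 6) := by decide +kernel

theorem prod_s0 {K : Type*} [Field K] (l : Kˣ) (s : ℕ) :
    ∏ k : Fin 6, (((Pi.mulSingle (0 : Fin 6) l * Pi.mulSingle (5 : Fin 6) l⁻¹ : Fin 6 → Kˣ) k : Kˣ) : K) ^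
      chevE6.cartan k s = (l : K) ^ (chevE6.cartan (0 : Fin 6) s - chevE6.cartan (5 : Fin 6) s) := by
  have e2 : ∀ (i : Fin 6) (u : Kˣ), ∏ k, (((Pi.mulSingle i u : Fin 6 → Kˣ) k : Kˣ) : K) ^ chevE6.cartan k s =
      (u : K) ^ chevE6.cartan i s := by
    intro i u
    rw [Finset.prod_eq_single i]
    · rw [Pi.mulSingle_eq_same]
    · intro k _ hk
      rw [Pi.mulSingle_eq_of_ne hk, Units.val_one, _root_.one_zpow]
    · intro hi; exact absurd (Finset.mem_univ i) hi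
  have e3 : ∏ k : Fin 6, (((Pi.mulSingle (0 : Fin 6) l * Pi.mulSingle (5 : Fin 6) l⁻¹ : Fin 6 → Kˣ) k : Kˣ) : K) ^
      chevE6.cartan k s = (l : K) ^ chevE6.cartan (0 : Fin 6) s * ((l⁻¹ : Kˣ) : K) ^ chevE6.cartan (5 : Fin 6) s := by
    rw [← e2 0 l, ← e2 5 l⁻¹, ← Finset.prod_mul_distrib]
    refine Finset.prod_congr rfl fun k _ => ?_
    rw [Pi.mul_apply, Units.val_mul, mul_zpow]
  rw [e3, Units.val_inv_eq_inv_val, inv_zpow, ← zpow_neg, ← zpow_add₀ l.ne_zero, sub_eq_add_neg]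

theorem mem_JA {k : Fin 6} (h : k ∉ JA) : k ≠ 1 ∧ k ≠ 3 := ⟨fun h1 => h (Or.inl h1), fun h1 => h (Or.inr h1)⟩

/-- the diagonalisation over an extension field -/
def DG (K : Type u) [Field K] (X : Matrix.SpecialLinearGroup (Fin 3) K) : Prop :=
  ∃ (K' : Type u) (_ : Field K') (_ : Finite K') (ι : K →+* K') (a b : K'ˣ) (P : Matrix.SpecialLinearGroup (Fin 3) K'),
    Matrix.SpecialLinearGroup.map ι X = P * dg3 a b * P⁻¹ ∧ (a : K') ∉ Set.range ι ∧
      ((a⁻¹ * b : K'ˣ) : K') ∉ Set.range ι ∧ ((b⁻¹ : K'ˣ) : K') ∉ Set.range ι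

/-- **No fixed points.** -/
theorem nfA {K : Type u} [Field K] {P : Matrix.SpecialLinearGroup (Fin 3) K →* ↥(chevE6.group K)}
    (hP : ∀ a b (hab : a ≠ b) c, P (Matrix.SpecialLinearGroup.transvection hab c) =
      xc RGDTwE6.hp (vec chevE6 6 (r6 a b)) (((1 : ℤ) : K) * c)) {l : Kˣ} (h1 : l ≠ 1) (h2 : l * l ≠ 1)
    {X : Matrix.SpecialLinearGroup (Fin 3) K} (hX : DG K X) :
    NF (VJ CoxeterMatrix.E₆.toCoxeterSystem RGDTwE6.hp.isCartan (XX chevE6 6 K) JA) (s0 l * P X) ∧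
      NF (VNJ CoxeterMatrix.E₆.toCoxeterSystem RGDTwE6.hp.isCartan (XX chevE6 6 K) JA) (s0 l * P X) := by
  obtain ⟨K', _, _, ι, a, b, Q, hQ, ha, hab, hb⟩ := hX
  obtain ⟨P', hP'⟩ := exists_hom_D RGDTwE6.hp (K := K') (ε := 1) (by norm_num) rt6.1 rt6.2.1 rt6.2.2.1 rt6.2.2.2
  refine nf_dg RGDTwE6.hp ι (r := r6) (ε := 1) (by norm_num) rt6.1 rt6.2.2.2 hP hP' simple_r6.1 simple_r6.2 (J := JA)
    (fun a b hab k hk => (tab_blk a b hab).2.2 k (mem_JA hk)) (fun a b hab => ?_) (fun s hs hk => ?_) hQ ha hab hb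
  · rw [prod_s0, (tab_blk a b hab).1, (tab_blk a b hab).2.1, sub_zero, zpow_zero]
  · obtain ⟨k, hk, hk0⟩ := hk
    rcases tab_out ⟨s, hs⟩ ⟨k, mem_JA hk, hk0⟩ with ⟨e1, e2, e3⟩ | h
    · refine Or.inl ⟨e1, e2, ?_⟩
      rw [prod_s0]
      have hl1 : (l : K) ≠ 1 := fun h => h1 (Units.ext h)
      have hl2 : (l : K) * l ≠ 1 := fun h => h2 (Units.ext h)
      have h0 : (l : K) ≠ 0 := l.ne_zero
      rcases e3 with e3 | e3 | e3 | e3
      · change (l : K) ^ (chevE6.cartan (0 : Fin 6) s - chevE6.cartan (5 : Fin 6) s) ≠ 1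
        rw [show chevE6.cartan (0 : Fin 6) s - chevE6.cartan (5 : Fin 6) s = 1 from e3, zpow_one]
        exact hl1
      · change (l : K) ^ (chevE6.cartan (0 : Fin 6) s - chevE6.cartan (5 : Fin 6) s) ≠ 1
        rw [show chevE6.cartan (0 : Fin 6) s - chevE6.cartan (5 : Fin 6) s = -1 from e3, zpow_neg_one]
        exact fun h => hl1 (inv_eq_one.1 h)
      · change (l : K) ^ (chevE6.cartan (0 : Fin 6) s - chevE6.cartan (5 : Fin 6) s) ≠ 1
        rw [show chevE6.cartan (0 : Fin 6) s - chevE6.cartan (5 : Fin 6) s = 2 from e3, zpow_two]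
        exact hl2
      · change (l : K) ^ (chevE6.cartan (0 : Fin 6) s - chevE6.cartan (5 : Fin 6) s) ≠ 1
        rw [show chevE6.cartan (0 : Fin 6) s - chevE6.cartan (5 : Fin 6) s = -2 from e3, zpow_neg, zpow_two]
        exact fun h => hl2 (inv_eq_one.1 h)
    · exact Or.inr h

/-! ### The fields -/

/-- an element of norm one which is not `±1` -/
theorem exists_norm_one {K : Type u} [Field K] [Fintype K] {φ : K →+* K} {q : ℕ} (hφ : ∀ t, φ t = t ^ q) (hq : 1 < q)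
    (hK : Fintype.card K = q ^ 2) : ∃ l : Kˣ, φ l * l = 1 ∧ l ≠ 1 ∧ l * l ≠ 1 := by
  classical
  obtain ⟨t, ht⟩ := IsCyclic.exists_ofOrder_eq_natCard (α := Kˣ)
  have h2 : Nat.card Kˣ = q ^ 2 - 1 := by
    rw [Nat.card_eq_fintype_card, Fintype.card_units, hK]
  have h3 : q ^ 2 - 1 = (q - 1) * (q + 1) := by
    obtain ⟨m, rfl⟩ : ∃ m, q = m + 2 := ⟨q - 2, by omega⟩
    have : (m + 2) ^ 2 - 1 = (m + 2 - 1) * (m + 2 + 1) := by
      have e : (m + 2) ^ 2 = (m + 1) * (m + 3) + 1 := by ring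
      rw [e]
      simp only [_root_.add_tsub_cancel_right, _root_.Nat.add_one_sub_one]
    exact this
  rw [h2, h3] at ht
  have hq1 : 0 < q - 1 := by omega
  refine ⟨t ^ (q - 1), ?_, fun h => ?_, fun h => ?_⟩
  · rw [hφ]
    have e : (t ^ (q - 1)) ^ (q + 1) = 1 := by
      rw [← pow_mul, ← ht, pow_orderOf_eq_one]
    have e2 := congrArg (Units.val) e
    rw [Units.val_pow_eq_pow_val, Units.val_one, pow_succ] at e2
    exact e2
  · have h4 := orderOf_dvd_of_pow_eq_one h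
    rw [ht] at h4
    have h5 := Nat.le_of_dvd hq1 h4
    nlinarith only [hq, hq1, h5]
  · rw [← pow_add] at h
    have h4 := orderOf_dvd_of_pow_eq_one h
    rw [ht] at h4
    have h5 := Nat.le_of_dvd (by omega) h4
    nlinarith only [hq, hq1, h5]

open Polynomial in
/-- an irreducible cubic over the fixed field is irreducible over `K` -/
theorem irr_map {K : Type u} [Field K] {φ : K →+* K} (hφφ : ∀ t, φ (φ t) = t) {f : (Fx φ 1)[X]} (hf : Irreducible f)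
    (hm : f.Monic) (h3 : f.natDegree = 3) : Irreducible (f.map (Fx φ 1).subtype) := by
  have hm' : (f.map (Fx φ 1).subtype).Monic := hm.map _
  have h3' : (f.map (Fx φ 1).subtype).natDegree = 3 := by rw [hm.natDegree_map, h3]
  rw [Polynomial.Monic.irreducible_iff_roots_eq_zero_of_degree_le_three hm' (by omega) (by omega)]
  by_contra hne
  obtain ⟨x, hx⟩ := Multiset.exists_mem_of_ne_zero hne
  have hx' : aeval x f = 0 := by
    have := (mem_roots hm'.ne_zero).1 hx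
    rw [IsRoot.def, eval_map] at this
    exact this
  -- the quadratic
  have h1 : φ (x + φ x) = x + φ x := by rw [map_add, hφφ, add_comm]
  have h2 : φ (x * φ x) = x * φ x := by rw [map_mul, hφφ, mul_comm]
  let a : Fx φ 1 := ⟨x + φ x, mem_Fx.2 h1⟩
  let b : Fx φ 1 := ⟨x * φ x, mem_Fx.2 h2⟩
  have hg : aeval x (Polynomial.X ^ 2 - C a * Polynomial.X + C b : (Fx φ 1)[X]) = 0 := by
    rw [map_add, map_sub, map_pow, map_mul, aeval_X, aeval_C, aeval_C]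
    change x ^ 2 - (x + φ x) * x + x * φ x = 0
    ring
  have hgm : (Polynomial.X ^ 2 - C a * Polynomial.X + C b : (Fx φ 1)[X]).natDegree ≤ 2 := by compute_degree
  have hg0 : (Polynomial.X ^ 2 - C a * Polynomial.X + C b : (Fx φ 1)[X]) ≠ 0 := by
    intro h
    have h4 := congrArg (fun p => p.coeff 2) h
    simp only [coeff_add, coeff_sub, coeff_X_pow, coeff_C_mul, coeff_X, coeff_C, coeff_zero] at h4
    norm_num at h4
  have hmin : minpoly (Fx φ 1) x = f := (minpoly.eq_of_irreducible_of_monic hf hx' hm).symm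
  have h4 := Polynomial.natDegree_le_of_dvd (minpoly.dvd (Fx φ 1) x hg) hg0
  rw [hmin, h3] at h4
  omega

/-! ### The action of the involution -/

section

variable {K : Type u} [Field K] {z : ↥(chevE6.group K)} {w : CoxeterMatrix.E₆.Group}
  (Z : ZD RGDTwE6.hp CoxeterMatrix.E₆.toCoxeterSystem w ga (fun _ => 1) z)

include Z

theorem z_sl (i : Fin 6) (A : SL(2, K)) : z * sl RGDTwE6.hp i A * z⁻¹ = sl RGDTwE6.hp (ga i) (rv2 A) := by
  have h : (MulAut.conj z).toMonoidHom.comp (sl RGDTwE6.hp i) = (sl RGDTwE6.hp (ga i)).comp rv2 := by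
    refine ext2 (fun a => ?_) (fun a => ?_)
    · change z * sl RGDTwE6.hp i (uu a) * z⁻¹ = sl RGDTwE6.hp (ga i) (rv2 (uu a))
      rw [rv2_uu, sl_uu, sl_vv, Z.pos, Int.cast_one, one_mul]
    · change z * sl RGDTwE6.hp i (vv a) * z⁻¹ = sl RGDTwE6.hp (ga i) (rv2 (vv a))
      rw [rv2_vv, sl_uu, sl_vv, Z.neg, Int.cast_one, one_mul]
  exact DFunLike.congr_fun h A

theorem z_s0 (l : Kˣ) : z * s0 l * z⁻¹ = s0 l := by
  have h1 : z * s0 l * z⁻¹ = (z * sl RGDTwE6.hp (0 : Fin 6) (_root_.Cfsg.Agent.FixBN.FieldRGD.dd (l : K) l.ne_zero) * z⁻¹) *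
      (z * sl RGDTwE6.hp (5 : Fin 6) (_root_.Cfsg.Agent.FixBN.FieldRGD.dd ((l⁻¹ : Kˣ) : K) l⁻¹.ne_zero) * z⁻¹) := by
    rw [s0_eq]; group
  rw [h1, z_sl Z, z_sl Z, rv2_dd, rv2_dd, s0_eq]
  change sl RGDTwE6.hp (5 : Fin 6) _ * sl RGDTwE6.hp (0 : Fin 6) _ = _
  rw [← sl_comm]
  congr 2
  · apply Subtype.ext
    change !![(((l⁻¹ : Kˣ) : K))⁻¹, 0; 0, (((l⁻¹ : Kˣ) : K))⁻¹⁻¹] = !![(l : K), 0; 0, (l : K)⁻¹]
    rw [Units.val_inv_eq_inv_val, inv_inv]
  · apply Subtype.ext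
    change !![(l : K)⁻¹, 0; 0, (l : K)⁻¹⁻¹] = !![((l⁻¹ : Kˣ) : K), 0; 0, ((l⁻¹ : Kˣ) : K)⁻¹]
    rw [Units.val_inv_eq_inv_val]

theorem z_mm : z * mm K * z⁻¹ = (mm K)⁻¹ := by
  have h1 : z * mm K * z⁻¹ = (z * sl RGDTwE6.hp (0 : Fin 6) (ww 1 one_ne_zero) * z⁻¹) *
      (z * sl RGDTwE6.hp (5 : Fin 6) (ww 1 one_ne_zero) * z⁻¹) := by
    unfold mm; group
  rw [h1, z_sl Z, z_sl Z, rv2_ww]
  change sl RGDTwE6.hp (5 : Fin 6) _ * sl RGDTwE6.hp (0 : Fin 6) _ = _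
  unfold mm
  rw [map_inv, map_inv, _root_.mul_inv_rev]

end

section

variable {K : Type u} [Field K] [Fintype K] {φ : K →+* K} {q : ℕ} (hφ : ∀ t, φ t = t ^ q)
  (hqq : ∀ t : K, (t ^ q) ^ q = t)

theorem fr_r6 : ∀ a b : Fin 3, a ≠ b → fr chevE6 w6 (r6 a b) = r6 b a := (chk6'.2.2.2)

variable {P : Matrix.SpecialLinearGroup (Fin 3) K →* ↥(chevE6.group K)}
    (hP : ∀ a b (hab : a ≠ b) c, P (Matrix.SpecialLinearGroup.transvection hab c) =
      xc RGDTwE6.hp (vec chevE6 6 (r6 a b)) (((1 : ℤ) : K) * c))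
    {f : Matrix.SpecialLinearGroup (Fin 3) (Fx φ 1) →* ↥(twistedE6 K q)}
    (hf : ∀ A, inc K q (f A) = P (Matrix.SpecialLinearGroup.map (Fx φ 1).subtype A))
    {z : ↥(twistedE6 K q)} (Z : ZD RGDTwE6.hp CoxeterMatrix.E₆.toCoxeterSystem
      (CoxeterMatrix.E₆.toCoxeterSystem.wordProd w6) ga (fun _ => 1) (inc K q z))

include hP hf Z

theorem z_f : ∃ (d : Fin 3 → Fx φ 1) (hd : ∀ a, d a * d a = 1), ∀ A, z * f A * z⁻¹ = f (tau d hd A) := by
  have h0 : ∀ a b : Fin 3, ∃ e : ℤ, (e = 1 ∨ e = -1) ∧ (a ≠ b → ∀ t : K,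
      inc K q z * xc RGDTwE6.hp (vec chevE6 6 (r6 a b)) t * (inc K q z)⁻¹ =
        xc RGDTwE6.hp (vec chevE6 6 (r6 b a)) ((e : K) * t)) := by
    intro a b
    by_cases hab : a = b
    · exact ⟨1, .inl rfl, fun h => absurd hab h⟩
    · obtain ⟨e, he, h1, -⟩ := Z.root (vec chevE6 6 (r6 a b)) (isRoot_vec RGDTwE6.hp _ (rlt a b hab))
      refine ⟨e, he, fun _ t => ?_⟩
      rw [h1, ← fr_vec RGDTwE6.hp _ w6 (rlt a b hab), fr_r6 a b hab]
  choose e he h1 using h0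
  have hcast : ∀ n : ℤ, (((n : Fx φ 1)) : K) = (n : K) := fun n => map_intCast (Fx φ 1).subtype n
  refine exists_tau (φ := f) (z := z) ?_ (η := fun a b => ((e a b : ℤ) : Fx φ 1)) (fun a b => ?_)
    (fun a b hab c => ?_) (fun a b hab c c' h => ?_)
  · apply inc_injective q
    rw [map_mul, map_one]
    exact Z.sq
  · rcases he a b with h | h <;> rw [h] <;> simp
  · apply inc_injective q
    rw [map_mul, map_mul, map_inv, f_tv hP hf, f_tv hP hf, h1 a b hab]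
    exact congrArg (fun t => xc RGDTwE6.hp (vec chevE6 6 (r6 b a)) (t * (c : K))) (hcast (e a b)).symm
  · have h2 := congrArg (inc K q) h
    rw [f_tv hP hf, f_tv hP hf] at h2
    exact Subtype.ext (xc_inj RGDTwE6.hp (rlt a b hab) h2)

end

end Cfsg.Agent.H928.Ore.TwN
end

-- part: H928/Ore/TwRow
section
/-!
The row `²E₆(q)`, all `q` (S2443, S4171): every element is a commutator and a product of four elements of square one,
from the product lemma for `SL₃(q)`.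
-/

set_option autoImplicit false
set_option linter.unusedSectionVars false

namespace Cfsg.Agent.H928.Ore.TwRow

open CoxeterSystem Cfsg.Agent.ChevalleyStructure.CoxeterGeom Cfsg.Agent.Tits.Roots Cfsg.Agent.Tits.Core
  Cfsg.Agent.Nodes Cfsg.Agent.Nodes.Reps Cfsg.Agent.Nodes.BNOf Cfsg.Agent.Nodes.RGDLib Cfsg.Agent.Nodes.Bruhat
  Cfsg.Agent.Nodes.OppDec Cfsg.Agent.Nodes.LeviDec Cfsg.Agent.Nodes.StabComb Cfsg.Agent.Nodes.KindChev
  Cfsg.Agent.Nodes.ChevCls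
  Cfsg.Agent.OddHalf.NI.ModelChev
  Cfsg.Agent.H162.GaussDec Cfsg.Agent.H162.GaussLevi Cfsg.Agent.H162.GaussSL Cfsg.Agent.H162.GaussReg
  Cfsg.Agent.H928.Ore.Frame Cfsg.Agent.H928.Ore.Fix Cfsg.Agent.H928.Ore.Block Cfsg.Agent.H928.Ore.TwE
  Cfsg.Agent.H928.Ore.TwS Cfsg.Agent.H928.Ore.TwF Cfsg.Agent.H928.Ore.TwN
open Cfsg.Lie Cfsg.Agent.ChevalleyStructure Cfsg.Agent.ChevalleyStructure.Elts
  Cfsg.Agent.ChevalleyStructure.NPerm
  Cfsg.Agent.ChevalleyStructure.CoxeterGeomTypes Cfsg.Agent.Nodes.RGDChev Cfsg.Agent.KFacts.RgdChevCoord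
open Cfsg.Agent.Nodes.RGDTwGen Cfsg.Agent.Nodes.RGDFold Cfsg.Agent.Nodes.RGDTwE6
open Cfsg.Agent.Nodes.RGDFoldSL (Fx mem_Fx)
open Cfsg.Agent.FixBN.FieldRGD (uu vv dd ww)
open Cfsg.Agent.H162.GaussExcMain (r6 rt6 exists_hom_D w6)
open Cfsg.Agent.H335.Sr
open Cfsg.Agent.H194.Ore (M3 exists_dg3)
open Cfsg.Agent.H777.Ore (AllC Inv4)
open scoped MatrixGroups

universe u

theorem dg_of {K : Type u} [Field K] [Finite K] {X : Matrix.SpecialLinearGroup (Fin 3) K}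
    (h : Irreducible (X : Matrix (Fin 3) (Fin 3) K).charpoly) : DG K X := by
  obtain ⟨K', h1, h2, ι, a, b, P, e, ha, hab, hb⟩ := exists_dg3 h
  exact ⟨K', h1, h2, ι, a, b, P, e, fun ⟨c, hc⟩ => ha c hc, fun ⟨c, hc⟩ => hab c hc, fun ⟨c, hc⟩ => hb c hc⟩

/-- an element inverted by an element of square one is a product of two of them -/
theorem two_of {Y : Type*} [Group Y] {t c : Y} (h1 : t * t = 1) (h2 : t * c * t⁻¹ = c⁻¹) :
    ∃ a b : Y, a ^ 2 = 1 ∧ b ^ 2 = 1 ∧ c = a * b := by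
  have h3 : t⁻¹ = t := inv_eq_of_mul_eq_one_right h1
  refine ⟨c * t, t, ?_, by rw [pow_two, h1], by rw [mul_assoc, h1, mul_one]⟩
  rw [h3] at h2
  calc (c * t) ^ 2 = c * (t * c * t) := by rw [pow_two]; group
    _ = 1 := by rw [h2, mul_inv_cancel]

section

variable {K : Type u} [Field K] [Fintype K] {φ : K →+* K} {q : ℕ} (hφ : ∀ t, φ t = t ^ q)
  (hqq : ∀ t : K, (t ^ q) ^ q = t)
  {P : Matrix.SpecialLinearGroup (Fin 3) K →* ↥(chevE6.group K)}
  (hP : ∀ a b (hab : a ≠ b) c, P (Matrix.SpecialLinearGroup.transvection hab c) =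
      xc RGDTwE6.hp (vec chevE6 6 (r6 a b)) (((1 : ℤ) : K) * c))
  {f : Matrix.SpecialLinearGroup (Fin 3) (Fx φ 1) →* ↥(twistedE6 K q)}
  (hf : ∀ A, inc K q (f A) = P (Matrix.SpecialLinearGroup.map (Fx φ 1).subtype A))
  {l : Kˣ} (h1 : l ≠ 1) (h2 : l * l ≠ 1)
  {s : ↥(twistedE6 K q)} (hs : inc K q s = s0 l)

include hP hf hs

theorem s_comm (A : Matrix.SpecialLinearGroup (Fin 3) (Fx φ 1)) : s * f A = f A * s := by
  apply inc_injective q
  rw [map_mul, map_mul, hs, hf, s0_eq]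
  calc sl RGDTwE6.hp (0 : Fin 6) (_root_.Cfsg.Agent.FixBN.FieldRGD.dd (l : K) l.ne_zero) * sl RGDTwE6.hp (5 : Fin 6) (_root_.Cfsg.Agent.FixBN.FieldRGD.dd ((l⁻¹ : Kˣ) : K) l⁻¹.ne_zero) *
        P (Matrix.SpecialLinearGroup.map (Fx φ 1).subtype A)
      = sl RGDTwE6.hp (0 : Fin 6) (dd (l : K) l.ne_zero) * (P (Matrix.SpecialLinearGroup.map (Fx φ 1).subtype A) *
          sl RGDTwE6.hp (5 : Fin 6) (dd ((l⁻¹ : Kˣ) : K) l⁻¹.ne_zero)) := by
        rw [mul_assoc, sl_comm_block hP (Or.inr rfl)]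
    _ = _ := by rw [← mul_assoc, sl_comm_block hP (Or.inl rfl), mul_assoc]

omit hP hf in
theorem s_T : s ∈ T K q := by
  refine Subgroup.mem_subgroupOf.2 ⟨?_, s.2⟩
  have hth : ∀ t : Fin 6 → Kˣ, th RGDTwE6.hp t ∈ TT chevE6 K := fun t => (thT RGDTwE6.hp t).2
  have h4 : s0 l ∈ TT chevE6 K := by
    unfold s0
    exact hth _
  have h3 := Subgroup.mem_subgroupOf.1 h4
  rw [← hs] at h3
  exact h3

include hφ hqq h1 h2

theorem s_nf {W : Type*} [Group W] (cs : CoxeterSystem CoxeterMatrix.F₄ W)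
    {X : Matrix.SpecialLinearGroup (Fin 3) (Fx φ 1)}
    (hX : Irreducible (X : Matrix (Fin 3) (Fin 3) (Fx φ 1)).charpoly) :
    NF (VJ cs RGDTwE6.isCartan (RGDTwE6.X φ q) JR) (s * f X) ∧
      NF (VNJ cs RGDTwE6.isCartan (RGDTwE6.X φ q) JR) (s * f X) := by
  have hφφ : ∀ t : K, φ (φ t) = t := fun t => by rw [hφ, hφ, hqq]
  have e1 : ((Matrix.SpecialLinearGroup.map (Fx φ 1).subtype X : Matrix.SpecialLinearGroup (Fin 3) K) :
      Matrix (Fin 3) (Fin 3) K).charpoly = (X : Matrix (Fin 3) (Fin 3) (Fx φ 1)).charpoly.map (Fx φ 1).subtype :=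
    Matrix.charpoly_map _ _
  have h3 : Irreducible ((Matrix.SpecialLinearGroup.map (Fx φ 1).subtype X : Matrix.SpecialLinearGroup (Fin 3) K) :
      Matrix (Fin 3) (Fin 3) K).charpoly := by
    rw [e1]
    refine irr_map hφφ hX (Matrix.charpoly_monic _) ?_
    rw [Matrix.charpoly_natDegree_eq_dim, Fintype.card_fin]
  obtain ⟨g1, g2⟩ := nfA hP h1 h2 (dg_of h3)
  have e2 : inc K q (s * f X) = s0 l * P (Matrix.SpecialLinearGroup.map (Fx φ 1).subtype X) := by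
    rw [map_mul, hs, hf]
  rw [← e2] at g1 g2
  exact ⟨NF.of_hom _ (inc_injective q) (VJ_le cs φ q) g1, NF.of_hom _ (inc_injective q) (VNJ_le cs φ q) g2⟩

omit h1 h2 in
/-- the strong reality -/
theorem s_real (hZ : Subgroup.center ↥(chevE6.group K) = ⊥) {X : Matrix.SpecialLinearGroup (Fin 3) (Fx φ 1)}
    (hX : Irreducible (X : Matrix (Fin 3) (Fin 3) (Fx φ 1)).charpoly) :
    (∃ t : ↥(twistedE6 K q), t * t = 1 ∧ t * (s * f X) * t⁻¹ = (s * f X)⁻¹) ∧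
      ∃ y : ↥(twistedE6 K q), y * s * y⁻¹ = s ∧ y * f X * y⁻¹ = (f X)⁻¹ := by
  obtain ⟨z, Z⟩ := exists_z hφ hqq hZ
  obtain ⟨m, hm⟩ := exists_inc hφ hqq (sgY_mm φ)
  obtain ⟨d, hd, hz⟩ := z_f hP hf Z
  have hprod : (∏ a, d a) ≠ 0 := Finset.prod_ne_zero_iff.2 fun a _ => left_ne_zero_of_mul_eq_one (hd a)
  obtain ⟨H, hH, hXH, hdet⟩ := exists_symm X.1 hX (∏ a, d a)
  obtain ⟨S, g1, g2⟩ := exists_S hd X hH hXH hdet
  have hzz : z * z = 1 := by
    apply inc_injective q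
    rw [map_mul, map_one]
    exact Z.sq
  obtain ⟨g3, g4⟩ := invol hzz hz g1 g2
  have hzs : z * s * z⁻¹ = s := by
    apply inc_injective q
    rw [map_mul, map_mul, map_inv, hs]
    exact z_s0 Z l
  have hmf : ∀ A, m * f A = f A * m := by
    intro A
    apply inc_injective q
    rw [map_mul, map_mul, hm, hf]
    unfold mm
    rw [mul_assoc, sl_comm_block hP (Or.inr rfl), ← mul_assoc, sl_comm_block hP (Or.inl rfl), mul_assoc]
  have hms : m * s * m⁻¹ = s⁻¹ := by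
    apply inc_injective q
    rw [map_mul, map_mul, map_inv, map_inv, hs, hm]
    exact mm_s0 l
  have hzm : z * m * z⁻¹ = m⁻¹ := by
    apply inc_injective q
    rw [map_mul, map_mul, map_inv, map_inv, hm]
    exact z_mm Z
  have hzi : z⁻¹ = z := inv_eq_of_mul_eq_one_left hzz
  have hzm2 : (z * m) * (z * m) = 1 := by
    calc (z * m) * (z * m) = (z * m * z) * m := by group
      _ = (z * m * z⁻¹) * m := by rw [hzi]
      _ = 1 := by rw [hzm]; group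
  have hzms : (z * m) * s * (z * m)⁻¹ = s⁻¹ := by
    calc (z * m) * s * (z * m)⁻¹ = z * (m * s * m⁻¹) * z⁻¹ := by group
      _ = (z * s * z⁻¹)⁻¹ := by rw [hms]; group
      _ = s⁻¹ := by rw [hzs]
  have hsf := s_comm (φ := φ) hP hf hs
  obtain ⟨g5, g6⟩ := combine (z := z) (S := f S) (m := m) (c := f X) (v := s) hzz g3 hzm2
    (hmf S).symm (hmf X) (hsf S).symm (hsf X).symm g4 hzms
  refine ⟨⟨_, g5, ?_⟩, z * f S, ?_, g4⟩
  · rw [hsf X]
    exact g6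
  · calc (z * f S) * s * (z * f S)⁻¹ = z * (f S * s) * (f S)⁻¹ * z⁻¹ := by group
      _ = z * s * z⁻¹ := by rw [← hsf]; group
      _ = s := hzs

end

/-- **The row `²E₆(q)`.** -/
theorem row_of {K : Type u} [Field K] [Fintype K] {q : ℕ} (hq : IsPrimePow q) (hK : Fintype.card K = q ^ 2)
    (hm3 : ∀ φ : K →+* K, (∀ t, φ t = t ^ q) → M3 (Fx φ 1)) :
    AllC ↥(twistedE6 K q) ∧ Inv4 ↥(twistedE6 K q) := by
  obtain ⟨φ, hφ, hqq⟩ := TwE6Basic.exists_frob hq hK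
  obtain ⟨p, hpc⟩ := CharP.exists K
  have : Fact p.Prime := ⟨(CharP.char_is_prime_or_zero K p).resolve_right (CharP.char_ne_zero_of_finite K p)⟩
  have hfin : Finite (GL chevE6.Idx K) := by
    have : Finite (Matrix chevE6.Idx chevE6.Idx K) := inferInstance
    infer_instance
  have : Finite ↥(twistedE6 K q) := inferInstance
  have hZ := Cfsg.Agent.Nodes.ChevChart.center_eq_bot (Cfsg.Agent.S1054.result (F := K) chevE6 (by simp))
  have R := RGDTwE6.rgd CoxeterMatrix.F₄.toCoxeterSystem hφ hqq p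
  have : Finite CoxeterMatrix.F₄.Group := Cfsg.Agent.Nodes.RGDFold.finite_W (hp := RGDTwE6.hp)
    CoxeterMatrix.F₄.toCoxeterSystem RGDTwE6.isCartan RGDTwE6.foldData
  have hS := Cfsg.Agent.S1070.result hq hK
  have := hS.1
  obtain ⟨P, hP⟩ := exists_hom_D RGDTwE6.hp (K := K) (ε := 1) (by norm_num) rt6.1 rt6.2.1 rt6.2.2.1 rt6.2.2.2
  obtain ⟨f, hf⟩ := exists_f hφ hqq hP
  obtain ⟨l, hl, h1, h2⟩ := exists_norm_one hφ hq.one_lt hK
  obtain ⟨s, hs⟩ := exists_inc hφ hqq (sgY_s0 hl)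
  have hs' : inc K q s⁻¹ = s0 l⁻¹ := by rw [map_inv, hs, s0_inv]
  have h1' : l⁻¹ ≠ 1 := by rwa [ne_eq, inv_eq_one]
  have h2' : l⁻¹ * l⁻¹ ≠ 1 := by
    rw [← mul_inv, ne_eq, inv_eq_one]
    exact h2
  have hsf := s_comm (φ := φ) hP hf hs
  have hsf' := s_comm (φ := φ) hP hf hs'
  -- the pairs
  have hb : ∀ v ∈ UNJ CoxeterMatrix.F₄.toCoxeterSystem RGDTwE6.isCartan (RGDTwE6.X φ q) JR,
      ∀ u ∈ UJ CoxeterMatrix.F₄.toCoxeterSystem RGDTwE6.isCartan (RGDTwE6.X φ q) JR, ∃ c₁ c₂, v * u = c₁ * c₂ ∧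
        LP CoxeterMatrix.F₄.toCoxeterSystem RGDTwE6.isCartan (T K q) (RGDTwE6.X φ q) JR c₁ c₂ ∧
        (∃ y, c₂ = y * c₁⁻¹ * y⁻¹) ∧ (∃ a b : ↥(twistedE6 K q), a ^ 2 = 1 ∧ b ^ 2 = 1 ∧ c₁ = a * b) ∧
        ∃ a b : ↥(twistedE6 K q), a ^ 2 = 1 ∧ b ^ 2 = 1 ∧ c₂ = a * b := by
    intro v hv u hu
    obtain ⟨L, hL, rfl⟩ := lo_f hφ hqq hP hf _ hv
    obtain ⟨U, hU, rfl⟩ := up_f hφ hqq hP hf _ hu
    obtain ⟨X, Y, hXY, hX, hY, hc⟩ := hm3 φ hφ L hL U hU
    have hsT : s ∈ LJ CoxeterMatrix.F₄.toCoxeterSystem RGDTwE6.isCartan (T K q) (RGDTwE6.X φ q) JR :=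
      T_le_LJ (s_T hs)
    obtain ⟨⟨t, ht1, ht2⟩, y, hy1, hy2⟩ := s_real hφ hqq hP hf hs hZ hX
    obtain ⟨⟨t', ht1', ht2'⟩, -⟩ := s_real hφ hqq hP hf hs' hZ hY
    refine ⟨s * f X, s⁻¹ * f Y, ?_, ⟨mul_mem hsT (f_LJ hφ hqq hP hf _ X), mul_mem (inv_mem hsT) (f_LJ hφ hqq hP hf _ Y),
      (s_nf hφ hqq hP hf h1 h2 hs _ hX).2, (s_nf hφ hqq hP hf h1' h2' hs' _ hY).1⟩, ?_, two_of ht1 ht2, two_of ht1' ht2'⟩
    · rw [← map_mul, hXY, map_mul, hsf]
      group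
    · have e5 : ∀ g, s⁻¹ * f g = f g * s⁻¹ := hsf'
      rcases hc with hc | hc
      · obtain ⟨g, hg⟩ := Cfsg.Agent.H150.MF.exists_conj (Cfsg.Agent.H150.MF.cls_of_irreducible hX)
          (Cfsg.Agent.H150.MF.cls_of_irreducible hY) hc.symm
        refine ⟨f g * y⁻¹, ?_⟩
        have e6 : y⁻¹ * s⁻¹ * y = s⁻¹ := by
          have : y⁻¹ * s * y = s := by
            calc y⁻¹ * s * y = y⁻¹ * (y * s * y⁻¹) * y := by rw [hy1]
              _ = s := by group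
          calc y⁻¹ * s⁻¹ * y = (y⁻¹ * s * y)⁻¹ := by group
            _ = s⁻¹ := by rw [this]
        have e7 : y⁻¹ * (f X)⁻¹ * y = f X := by
          rw [← hy2]; group
        calc s⁻¹ * f Y = s⁻¹ * f g * f X * (f g)⁻¹ := by rw [hg, map_mul, map_mul, map_inv]; group
          _ = f g * (s⁻¹ * f X) * (f g)⁻¹ := by rw [e5 g]; group
          _ = f g * ((y⁻¹ * s⁻¹ * y) * (y⁻¹ * (f X)⁻¹ * y)) * (f g)⁻¹ := by rw [e6, e7]
          _ = (f g * y⁻¹) * (f X * s)⁻¹ * (f g * y⁻¹)⁻¹ := by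
            have e8 : s⁻¹ * (f X)⁻¹ = (f X * s)⁻¹ := by group
            rw [← e8]; group
          _ = _ := by rw [← hsf]
      · have hXi : Irreducible ((X⁻¹ : Matrix.SpecialLinearGroup (Fin 3) (Fx φ 1)) :
            Matrix (Fin 3) (Fin 3) (Fx φ 1)).charpoly := by
          rw [← hc]
          exact hY
        obtain ⟨g, hg⟩ := Cfsg.Agent.H150.MF.exists_conj (Cfsg.Agent.H150.MF.cls_of_irreducible hXi)
          (Cfsg.Agent.H150.MF.cls_of_irreducible hY) hc.symm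
        refine ⟨f g, ?_⟩
        calc s⁻¹ * f Y = (s⁻¹ * f g) * (f X)⁻¹ * (f g)⁻¹ := by
              rw [hg, map_mul, map_mul, map_inv, map_inv]; group
          _ = f g * (f X * s)⁻¹ * (f g)⁻¹ := by rw [e5]; group
          _ = _ := by rw [← hsf]
  have hG := RGDTwE6.G1_eq_top CoxeterMatrix.F₄.toCoxeterSystem hφ hqq
  have hcoord := Cfsg.Agent.H958.TS.TwCommon.coordP hφ hqq
  have hM := Cfsg.Agent.Nodes.ChevChart.irr_of Cfsg.Agent.Nodes.ChevChart.irrF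
  have hcore : ∀ g : ↥(twistedE6 K q), g ≠ 1 →
      g ∉ (RGD.B CoxeterMatrix.F₄.toCoxeterSystem RGDTwE6.isCartan (T K q) (RGDTwE6.X φ q)).normalCore := by
    intro g hg h
    apply hg
    have h3 := Cfsg.Agent.H162.GaussMain.core_le_ker R (MonoidHom.id ↥(twistedE6 K q)) Function.surjective_id
      (fun x hx => by
        rw [MonoidHom.mem_ker] at hx
        change x = 1 at hx
        rw [hx]
        exact one_mem _) h
    exact h3
  constructor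
  · intro g
    by_cases hg : g = 1
    · rw [hg]
      exact ⟨1, 1, by group⟩
    · exact comm R hG hcoord hM (J := JR) (fun v hv u hu => by
        obtain ⟨c₁, c₂, e1, e2, e3, -, -⟩ := hb v hv u hu
        exact ⟨c₁, c₂, e1, e2, e3⟩) (hcore g hg)
  · intro g
    by_cases hg : g = 1
    · rw [hg]
      exact ⟨1, 1, 1, 1, by simp, by simp, by simp, by simp, by simp⟩
    · obtain ⟨a, b, c, d, ha, hb', hc, hd, e⟩ := four R hG hcoord hM (J := JR) (fun v hv u hu => by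
        obtain ⟨c₁, c₂, e1, e2, -, e4, e5⟩ := hb v hv u hu
        exact ⟨c₁, c₂, e1, e2, e4, e5⟩) (hcore g hg)
      exact ⟨a, b, c, d, by rw [← pow_two, ha], by rw [← pow_two, hb'], by rw [← pow_two, hc], by rw [← pow_two, hd], e⟩

end Cfsg.Agent.H928.Ore.TwRow
end

-- part: H928/Ore/TwFin
section
/-!
`²E₆(2)`, `²E₆(3)` and the reduction of `²E₆(q)`, `q ≥ 4`, to the product lemma for `SL₃(q)` (S2443, S4171).
-/

set_option autoImplicit false

namespace Cfsg.Agent.H928.Ore.TwFin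

open Cfsg.Lie Cfsg.Agent.ChevalleyStructure
open Cfsg.Agent.Nodes.RGDFoldSL (Fx mem_Fx)
open Cfsg.Agent.H928.Ore.TwRow
open Cfsg.Agent.H194.Ore (M3)
open Cfsg.Agent.H777.Ore (AllC Inv4)

universe u

theorem card_Fx {K : Type u} [Field K] [Fintype K] {q : ℕ} (hq : 1 < q) (hK : Fintype.card K = q ^ 2) {φ : K →+* K}
    (hφ : ∀ x, φ x = x ^ q) : Nat.card (Fx φ 1) = q := by
  have h1 : Nat.card (Fx φ 1)ˣ = q - 1 := by
    rw [← D4H1.card_fixed hq hK hφ]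
    refine Nat.card_congr
      { toFun := fun u => (⟨Units.map ((Fx φ 1).subtype : Fx φ 1 →* K) u, mem_Fx.1 (u : Fx φ 1).2⟩ :
          {b : Kˣ // φ b = b})
        invFun := fun b =>
          ⟨⟨(b : Kˣ), mem_Fx.2 b.2⟩, ⟨((b : Kˣ)⁻¹ : Kˣ), mem_Fx.2 (by
            show φ ((b : Kˣ)⁻¹ : Kˣ) = ((b : Kˣ)⁻¹ : Kˣ)
            rw [Units.val_inv_eq_inv_val, map_inv₀, b.2])⟩,
            Subtype.ext (by simp only [_root_.Units.val_inv_eq_inv_val, _root_.MulMemClass.mk_mul_mk, _root_.ne_eq, _root_.Units.ne_zero, _root_.not_false_eq_true, _root_.mul_inv_cancel₀, _root_.OneMemClass.coe_one]), Subtype.ext (by simp only [_root_.Units.val_inv_eq_inv_val, _root_.MulMemClass.mk_mul_mk, _root_.ne_eq, _root_.Units.ne_zero, _root_.not_false_eq_true, _root_.inv_mul_cancel₀, _root_.OneMemClass.coe_one])⟩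
        left_inv := fun u => by ext; rfl
        right_inv := fun b => by ext; rfl }
  rw [Nat.card_units] at h1
  have h2 : 0 < Nat.card (Fx φ 1) := Nat.card_pos
  omega

/-- `SL₃(2)`, `SL₃(3)` -/
theorem m3_small {F : Type*} [Field F] [Finite F] (hF : Nat.card F = 2 ∨ Nat.card F = 3) : M3 F :=
  fun _ hL _ hU => Cfsg.Agent.H374.Ore.Sl3.m3 hF hL hU

/-- **The rows `²E₆(2)` and `²E₆(3)`.** -/
theorem row_small {K : Type u} [Field K] [Fintype K] {q : ℕ} (hq : q = 2 ∨ q = 3) (hK : Fintype.card K = q ^ 2) :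
    AllC ↥(twistedE6 K q) ∧ Inv4 ↥(twistedE6 K q) := by
  have hq' : IsPrimePow q := by
    rcases hq with rfl | rfl
    · exact Nat.prime_two.isPrimePow
    · exact Nat.prime_three.isPrimePow
  refine row_of hq' hK fun φ hφ => m3_small ?_
  rw [card_Fx hq'.one_lt hK hφ]
  exact hq

/-- **The row `²E₆(q)`**, from the product lemma for `SL₃(F)`, `|F| ≥ 4`. -/
theorem row_all {K : Type u} [Field K] [Fintype K] {q : ℕ} (hq : IsPrimePow q) (hK : Fintype.card K = q ^ 2)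
    (hm3 : ∀ (F : Type u) [Field F] [Finite F], 4 ≤ Nat.card F → M3 F) :
    AllC ↥(twistedE6 K q) ∧ Inv4 ↥(twistedE6 K q) := by
  by_cases h : q = 2 ∨ q = 3
  · exact row_small h hK
  · refine row_of hq hK fun φ hφ => hm3 _ ?_
    rw [card_Fx hq.one_lt hK hφ]
    have := hq.one_lt
    omega

end Cfsg.Agent.H928.Ore.TwFin
end

private theorem dce_4a674edaae0d : _root_.True := by
  try have : _root_.True := by simp only [_root_.Cfsg.Agent.FixBN.FieldRGD.ww.congr_simp]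
  exact _root_.True.intro
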