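import Cfsg.Agent.H841.TwG_m3
import Cfsg.Agent.H864.Ore.GlComm
import Cfsg.Agent.H928.Ore.TwFin
import Cfsg.Agent.H194.Ore.RowEF
import Cfsg.Agent.H162.GaussExcMain
import Cfsg.Agent.H122.TC.Real_m3
import Cfsg.Agent.H85.Ore.Phi_mg_m3
import Cfsg.Agent.H928.Ore.Frame
import Cfsg.Agent.H129.CycRow
import Cfsg.Agent.H134.Sq.Base_m3
import Cfsg.Agent.Nodes.PosPair
import Cfsg.Agent.TitsThree.RTFast
import Cfsg.Agent.FastGrp
import Cfsg.Agent.Prune
set_option linter.all false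

section
prune_inst 0x7ffda9fbfbbcffffdfff7e7ffedfdffdf9bb5fffacfffdcb7fe061ff2fdf6b88c9c563ad8be212fe1ed6421410a87b43fbffffffea6ffc7ffffdfff41ffbee4ff5f7b508519e8cb40fbc2fff03f0778e7f3fffffffffffffffffffffffffffbeffbfffffffff

-- part: H928/Ore/TwAll
section
prune_inst 0x2140000430000000001800100200006002000000000008002080000201414000a0400000820000001800004420000040000000000000000000000000011800800000000000000000000000000000000000000000000000000000000000000000000000000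
set_option linter.all false
open scoped Cfsg.Agent.FastGrp

-- part: H143/Fact/MThree
section
/-!
# `SL_3(K)`: products of two irreducible elements, the elements with characteristic polynomial `(X - c)³` (helper143)

* `m3_unip` : `c` times a unipotent element (not scalar), for every finite field;
* `m3_one`, `m3_irr` : the identity and the irreducible elements.
-/

set_option autoImplicit false
set_option linter.unusedSectionVars false

namespace Cfsg.Agent.H143.Fact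

open Matrix Polynomial Cfsg.Agent.H374.Ore.Sl3

variable {K : Type*} [Field K]

/-- the conclusion: `l` is a product of two irreducible elements, of equal or inverse types -/
def M3 (l : _root_.Matrix.SpecialLinearGroup (Fin 3) K) : Prop :=
  ∃ A B : _root_.Matrix.SpecialLinearGroup (Fin 3) K, l = A * B ∧ Irreducible A.1.charpoly ∧ Irreducible B.1.charpoly ∧
    (B.1.charpoly = A.1.charpoly ∨ B.1.charpoly = (A⁻¹).1.charpoly)

/-- conjugation of an element of `SL` by an element of `GL` -/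
noncomputable def cjG (R : GL (Fin 3) K) : _root_.Matrix.SpecialLinearGroup (Fin 3) K →* _root_.Matrix.SpecialLinearGroup (Fin 3) K where
  toFun A := ⟨(R : Matrix (Fin 3) (Fin 3) K) * A.1 * ((R⁻¹ : GL (Fin 3) K) : Matrix (Fin 3) (Fin 3) K), by
    rw [Matrix.det_mul, Matrix.det_mul, A.2, mul_one, ← Matrix.det_mul, ← Units.val_mul, mul_inv_cancel,
      Units.val_one, Matrix.det_one]⟩
  map_one' := by
    apply Subtype.ext
    change (R : Matrix (Fin 3) (Fin 3) K) * 1 * ((R⁻¹ : GL (Fin 3) K) : Matrix (Fin 3) (Fin 3) K) = 1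
    rw [mul_one, ← Units.val_mul, mul_inv_cancel, Units.val_one]
  map_mul' A B := by
    apply Subtype.ext
    change (R : Matrix (Fin 3) (Fin 3) K) * (A.1 * B.1) * ((R⁻¹ : GL (Fin 3) K) : Matrix (Fin 3) (Fin 3) K) =
      (R : Matrix (Fin 3) (Fin 3) K) * A.1 * ((R⁻¹ : GL (Fin 3) K) : Matrix (Fin 3) (Fin 3) K) *
      ((R : Matrix (Fin 3) (Fin 3) K) * B.1 * ((R⁻¹ : GL (Fin 3) K) : Matrix (Fin 3) (Fin 3) K))
    have h : ((R⁻¹ : GL (Fin 3) K) : Matrix (Fin 3) (Fin 3) K) * (R : Matrix (Fin 3) (Fin 3) K) = 1 := by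
      rw [← Units.val_mul, inv_mul_cancel, Units.val_one]
    calc _ = (R : Matrix (Fin 3) (Fin 3) K) * A.1 * 1 * B.1 * ((R⁻¹ : GL (Fin 3) K) : Matrix (Fin 3) (Fin 3) K) := by
          simp only [mul_one, mul_assoc]
      _ = _ := by rw [← h]; simp only [mul_assoc]

theorem cjG_coe (R : GL (Fin 3) K) (A : _root_.Matrix.SpecialLinearGroup (Fin 3) K) :
    (cjG R A).1 = (R : Matrix (Fin 3) (Fin 3) K) * A.1 * ((R⁻¹ : GL (Fin 3) K) : Matrix (Fin 3) (Fin 3) K) := rfl

theorem charpoly_cj (R : GL (Fin 3) K) (A : _root_.Matrix.SpecialLinearGroup (Fin 3) K) : (cjG R A).1.charpoly = A.1.charpoly := by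
  rw [cjG_coe, Matrix.coe_units_inv]
  exact Matrix.charpoly_units_conj R A.1

theorem M3.conj {l : _root_.Matrix.SpecialLinearGroup (Fin 3) K} (h : M3 l) (R : GL (Fin 3) K) : M3 (cjG R l) := by
  obtain ⟨A, B, rfl, h1, h2, h3⟩ := h
  have hA := charpoly_cj R A
  have hB := charpoly_cj R B
  have hA' := charpoly_cj R A⁻¹
  have e : (cjG R A)⁻¹ = cjG R A⁻¹ := ((cjG R).map_inv A).symm
  refine ⟨cjG R A, cjG R B, (cjG R).map_mul A B, ?_, ?_, ?_⟩
  · exact hA.symm ▸ h1
  · exact hB.symm ▸ h2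
  · rw [e]
    rcases h3 with h3 | h3
    · left; exact hB.trans (h3.trans hA.symm)
    · right; exact hB.trans (h3.trans hA'.symm)

/-! ### an irreducible polynomial `X³ + s X - 1` -/

/-! ### the models -/

/-! ### similarity -/

/-- similar matrices -/
def Sm (l m : Matrix (Fin 3) (Fin 3) K) : Prop := ∃ P : Matrix (Fin 3) (Fin 3) K, P.det ≠ 0 ∧ l * P = P * m

theorem Sm.symm {l m : Matrix (Fin 3) (Fin 3) K} (h : Sm l m) : Sm m l := by
  obtain ⟨P, hP, h⟩ := h
  have hu : IsUnit P.det := isUnit_iff_ne_zero.2 hP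
  refine ⟨P⁻¹, ?_, ?_⟩
  · intro h0
    have h1 := congrArg Matrix.det (Matrix.mul_nonsing_inv P hu)
    rw [Matrix.det_mul, h0, mul_zero, Matrix.det_one] at h1
    exact zero_ne_one h1
  · calc m * P⁻¹ = P⁻¹ * (P * m) * P⁻¹ := by rw [← mul_assoc, Matrix.nonsing_inv_mul P hu, one_mul]
      _ = P⁻¹ * l * (P * P⁻¹) := by rw [← h]; simp only [mul_assoc]
      _ = P⁻¹ * l := by rw [Matrix.mul_nonsing_inv P hu, mul_one]

theorem Sm.trans {l m r : Matrix (Fin 3) (Fin 3) K} (h : Sm l m) (h' : Sm m r) : Sm l r := by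
  obtain ⟨P, hP, h⟩ := h
  obtain ⟨Q, hQ, h'⟩ := h'
  refine ⟨P * Q, by rw [Matrix.det_mul]; exact mul_ne_zero hP hQ, ?_⟩
  rw [← mul_assoc, h, mul_assoc, h', mul_assoc]

end Cfsg.Agent.H143.Fact
end

-- part: H928/Ore/TwAll
section
/-!
**The row `²E₆(q)`**, all `q` (S2443, S4171): every element is a commutator, every element is a product of four elements
of square one.
-/

set_option autoImplicit false

namespace Cfsg.Agent.H928.Ore.TwAll

open Cfsg.Lie
open Cfsg.Agent.H777.Ore (AllC Inv4)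

universe u

theorem m3 (F : Type u) [Field F] [Finite F] (hF : 4 ≤ Nat.card F) : Cfsg.Agent.H194.Ore.M3 F := by
  apply @_root_.Cfsg.Agent.H194.Ore.m3_of_four <;> assumption

/-- **The row `²E₆(q)`.** -/
theorem row {K : Type u} [Field K] [Fintype K] {q : ℕ} (hq : IsPrimePow q) (hK : Fintype.card K = q ^ 2) :
    AllC ↥(twistedE6 K q) ∧ Inv4 ↥(twistedE6 K q) :=
  Cfsg.Agent.H928.Ore.TwFin.row_all hq hK m3

end Cfsg.Agent.H928.Ore.TwAll
end
end

-- part: H267/Ore/ESevenTwo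
section
set_option linter.all false
open scoped Cfsg.Agent.FastGrp
attribute [local instance] Cfsg.Agent.TitsThree.RTFast.decRTb Cfsg.Agent.TitsThree.RTFast.decRTc

namespace Cfsg.Agent.H90F

private noncomputable def frc {α : Type} (x : ℕ) (f : ℕ → α) : α := Nat.rec (f 0) (fun k _ => f (Nat.succ k)) x

private theorem frc_eq {α : Type} (x : ℕ) (f : ℕ → α) : frc x f = f x := by cases x <;> rfl

private noncomputable def nth {α : Type} (d : α) (l : List α) : ℕ → α :=
  List.rec (fun _ => d) (fun a _ ih n => Nat.rec a (fun k _ => ih k) n) l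

private theorem nth_eq {α : Type} (d : α) (l : List α) (n : ℕ) : nth d l n = l.getD n d := by
  induction l generalizing n with
  | nil => rfl
  | cons a l ih => cases n with
    | zero => rfl
    | succ k => exact ih k

private theorem nth_arr {α : Type} (d : α) (a : Array α) (n : ℕ) : a.getD n d = nth d a.toList n := by
  rw [nth_eq, List.getD_eq_getElem?_getD, Array.getD_eq_getD_getElem?, Array.getElem?_toList]

private noncomputable def row (D : Cfsg.Lie.ChevalleyDatum) (r : ℕ) : List (ℕ × Array (ℕ × ℤ)) := (nth #[] D.chain.toList r).toList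

private noncomputable def fnd (s : ℕ) (l : List (ℕ × Array (ℕ × ℤ))) : List (ℕ × ℤ) :=
  List.rec [] (fun e _ ih => Bool.rec ih e.2.toList (Nat.beq e.1 s)) l

private theorem ce_eq0 (D : Cfsg.Lie.ChevalleyDatum) (r s : ℕ) : D.chainEntry r s = fnd s (row D r) := by
  unfold Cfsg.Lie.ChevalleyDatum.chainEntry row
  rw [nth_arr]
  generalize (nth #[] D.chain.toList r).toList = l
  induction l with
  | nil => rfl
  | cons e l ih =>
    show _ = (Bool.rec (fnd s l) e.2.toList (Nat.beq e.1 s) : List (ℕ × ℤ))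
    by_cases h : e.1 = s
    · rw [List.find?_cons_of_pos (by simpa using h), Nat.beq_eq.mpr h]
    · rw [List.find?_cons_of_neg (by simpa using h), ih, Bool.eq_false_iff.2 fun h1 => h (Nat.eq_of_beq_eq_true h1)]

private noncomputable def fce (D : Cfsg.Lie.ChevalleyDatum) (r s : ℕ) : List (ℕ × ℤ) := frc r fun r => frc s fun s => fnd s (row D r)

private theorem ce_eq (D : Cfsg.Lie.ChevalleyDatum) : D.chainEntry = fce D := by
  funext r s
  rw [fce, frc_eq, frc_eq, ce_eq0]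

private noncomputable def fcr (D : Cfsg.Lie.ChevalleyDatum) (r s i : ℕ) : Option ℕ := ((fce D r s)[i - 1]?).map Prod.fst

private theorem cr_eq (D : Cfsg.Lie.ChevalleyDatum) : D.chainRoot = fcr D := by
  funext r s i
  rw [fcr, ← ce_eq]; rfl

private noncomputable def fng (D : Cfsg.Lie.ChevalleyDatum) (r : ℕ) : ℕ := frc r (nth 0 D.negIdx.toList)

private theorem ng_eq (D : Cfsg.Lie.ChevalleyDatum) : D.neg = fng D := by
  funext r
  rw [fng, frc_eq]
  exact nth_arr _ _ _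

private noncomputable def fsi (D : Cfsg.Lie.ChevalleyDatum) (i : ℕ) : ℕ := frc i (nth 0 D.simpleIdx.toList)

private theorem si_eq (D : Cfsg.Lie.ChevalleyDatum) : D.simple = fsi D := by
  funext r
  rw [fsi, frc_eq]
  exact nth_arr _ _ _

private noncomputable def fca (D : Cfsg.Lie.ChevalleyDatum) (i s : ℕ) : ℤ :=
  frc i fun i => frc s (nth 0 (nth #[] D.cartanSR.toList i).toList)

private theorem ca_eq (D : Cfsg.Lie.ChevalleyDatum) : D.cartan = fca D := by
  funext i s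
  rw [fca, frc_eq, frc_eq, ← nth_arr, ← nth_arr]
  rfl

private noncomputable def frr (D : Cfsg.Lie.ChevalleyDatum) (i s : ℕ) : ℕ :=
  frc i fun i => frc s fun s => frc (fsi D i) fun p => frc (fng D p) fun q =>
    Bool.rec (Bool.rec
      (Int.rec (fun a => Nat.rec s (fun k _ => (fcr D q s (Nat.succ k)).getD s) a)
        (fun k => (fcr D p s (Nat.succ k)).getD s) (fca D i s))
      p (Nat.beq s q)) q (Nat.beq s p)

private theorem rr_eq (D : Cfsg.Lie.ChevalleyDatum) : D.reflectRoot = frr D := by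
  funext i s
  rw [frr, frc_eq, frc_eq, frc_eq, frc_eq, ← cr_eq, ← ng_eq, ← si_eq, ← ca_eq]
  unfold Cfsg.Lie.ChevalleyDatum.reflectRoot
  dsimp only
  by_cases h1 : s = D.simple i
  · rw [if_pos h1, Nat.beq_eq.mpr h1]
  rw [if_neg h1, Bool.eq_false_iff.2 fun h => h1 (Nat.eq_of_beq_eq_true h)]
  by_cases h2 : s = D.neg (D.simple i)
  · rw [if_pos h2, Nat.beq_eq.mpr h2]
  rw [if_neg h2, Bool.eq_false_iff.2 fun h => h2 (Nat.eq_of_beq_eq_true h)]
  generalize D.cartan i s = A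
  rcases A with (_ | k) | k
  · rfl
  · exact if_pos (Int.ofNat_succ_pos k)
  · rw [if_neg (Int.negSucc_lt_zero k).not_gt, if_pos (Int.negSucc_lt_zero k)]; rfl

private theorem rr_fun : Cfsg.Lie.ChevalleyDatum.reflectRoot = frr := funext rr_eq

private theorem ng_fun : Cfsg.Lie.ChevalleyDatum.neg = fng := funext ng_eq

private theorem si_fun : Cfsg.Lie.ChevalleyDatum.simple = fsi := funext si_eq

private theorem ca_fun : Cfsg.Lie.ChevalleyDatum.cartan = fca := funext ca_eq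

end Cfsg.Agent.H90F

-- part: H267/Ore/TabE7
section
/-!
# The block `A₆` of `E₇` (helper267; Ore's conjecture and four involutions for `E₇(2)`)

The tables of the block of type `A₆` on the nodes `0, 2, 3, 4, 5, 6` of `chevE7`.
-/

set_option autoImplicit false

namespace Cfsg.Agent.H267.Ore

open Cfsg.Lie Cfsg.Agent.ChevalleyStructure Cfsg.Agent.Nodes.RGDChev Cfsg.Agent.TitsThree.KExcRT
open Cfsg.Agent.H162.GaussExcMain Cfsg.Agent.H162

/-- the roots of the block `A₆` -/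
def rS : Fin 7 → Fin 7 → ℕ := ![![0, 93, 94, 95, 96, 97, 98], ![32, 0, 73, 74, 75, 76, 77],
  ![31, 52, 0, 69, 70, 71, 72], ![30, 51, 56, 0, 66, 67, 68], ![29, 50, 55, 59, 0, 64, 65],
  ![28, 49, 54, 58, 61, 0, 63], ![27, 48, 53, 57, 60, 62, 0]]

/-- the nodes of the block -/
def jS : List (Fin 7) := [0, 2, 3, 4, 5, 6]

theorem chkS1 : ChkB chevE7 7 jS ![2, 2, 3, 4, 3, 2, 1] w7 5 rS := by (delta Cfsg.Agent.H162.GaussExcMain.ChkB Cfsg.Agent.H162.GaussExc.fr; rewrite [H90F.rr_fun, H90F.ca_fun]; decide +kernel)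

theorem chkS2 : ChkSub chevE7 7 jS 5 rS := by decide +kernel

theorem rtS : RTa chevE7 rS ∧ (RTb chevE7 rS fun _ _ => -1) ∧ RTc chevE7 rS ∧
    ∀ i j, i ≠ j → rS j i = chevE7.neg (rS i j) := by decide +kernel

theorem w7_neg : ∀ j : Fin 7, GaussExc.fr chevE7 w7 (chevE7.simple j) = chevE7.neg (chevE7.simple j) := by
  (delta Cfsg.Agent.H162.GaussExc.fr; rewrite [H90F.rr_fun, H90F.ng_fun, H90F.si_fun]; decide +kernel)

end Cfsg.Agent.H267.Ore
end

-- part: H267/Ore/LinTwo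
section
/-!
# `SL_7` over the field with two elements (helper267; Ore's conjecture and four involutions for `E₇(2)`)
-/

set_option autoImplicit false

namespace Cfsg.Agent.H267.Ore

open Matrix Polynomial Module
open Cfsg.Agent.H934.MF Cfsg.Agent.H71.CovScal Cfsg.Agent.H166.Cov

universe u

variable {K : Type u} [Field K]

/-- matrices with the same irreducible characteristic polynomial are conjugate -/
theorem exists_conj {n : ℕ} {X Y : Matrix (Fin n) (Fin n) K} (hirr : Irreducible X.charpoly)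
    (h : Y.charpoly = X.charpoly) : ∃ P : Matrix (Fin n) (Fin n) K, IsUnit P.det ∧ P * X = Y * P := by
  have h1 : Sim (Matrix.toLin' X) (Matrix.toLin' Y) := by
    refine sim_of_irreducible hirr ?_ ?_ rfl
    · have := LinearMap.aeval_self_charpoly (Matrix.toLin' X)
      rwa [Matrix.charpoly_toLin'] at this
    · have := LinearMap.aeval_self_charpoly (Matrix.toLin' Y)
      rwa [Matrix.charpoly_toLin', h] at this
  obtain ⟨e, he⟩ := h1
  refine ⟨LinearMap.toMatrix' (e : (Fin n → K) →ₗ[K] (Fin n → K)), ?_, ?_⟩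
  · rw [LinearMap.det_toMatrix']
    exact LinearEquiv.isUnit_det' e
  · apply Matrix.toLin'.injective
    rw [Matrix.toLin'_mul, Matrix.toLin'_mul, Matrix.toLin'_toMatrix']
    exact LinearMap.ext he

variable [Fintype K]

theorem eq_one_of_ne_zero (hK : Fintype.card K = 2) {x : K} (hx : x ≠ 0) : x = 1 := by
  have h1 := FiniteField.pow_card_sub_one_eq_one x hx
  rwa [hK, pow_one] at h1

theorem det_eq_one (hK : Fintype.card K = 2) {n : ℕ} {P : Matrix (Fin n) (Fin n) K} (h : IsUnit P.det) : P.det = 1 :=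
  eq_one_of_ne_zero hK h.ne_zero

theorem exists_conj_SL (hK : Fintype.card K = 2) {n : ℕ} {X Y : SpecialLinearGroup (Fin n) K}
    (hirr : Irreducible X.1.charpoly) (h : Y.1.charpoly = X.1.charpoly) :
    ∃ P : SpecialLinearGroup (Fin n) K, Y = P * X * P⁻¹ := by
  obtain ⟨P, hP, e⟩ := exists_conj hirr h
  obtain ⟨Q, rfl⟩ : ∃ Q : SpecialLinearGroup (Fin n) K, Q.1 = P := ⟨⟨P, det_eq_one hK hP⟩, rfl⟩
  have h1 : Q * X = Y * Q := Subtype.ext e
  exact ⟨Q, by rw [h1]; group⟩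

theorem pow_127 (hK : Fintype.card K = 2) {X : SpecialLinearGroup (Fin 7) K} (hirr : Irreducible X.1.charpoly) :
    X ^ 127 = 1 := by
  have h1 := pow_eq_det (F := K) (V := Fin 7 → K) (T := Matrix.toLin' X.1) (by rwa [Matrix.charpoly_toLin'])
  rw [Fin.sum_univ_eq_sum_range (fun i => Nat.card K ^ i), Module.finrank_fin_fun, Nat.card_eq_fintype_card, hK,
    LinearMap.det_toLin', X.2, one_smul, ← Matrix.toLin'_pow] at h1
  have h2 : (∑ i ∈ Finset.range 7, 2 ^ i : ℕ) = 127 := by decide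
  rw [h2] at h1
  have h3 : X.1 ^ 127 = 1 := by
    apply Matrix.toLin'.injective
    rw [h1]
    exact Matrix.toLin'_one.symm
  exact Subtype.ext ((Matrix.SpecialLinearGroup.coe_pow X 127).trans h3)

/-- **Products in `SL_7(2)`.** -/
theorem exists_prod_seven (hK : Fintype.card K = 2) : ∃ f : K[X], Irreducible f ∧
    ∀ A : SpecialLinearGroup (Fin 7) K, A ≠ 1 → ∃ X Y : SpecialLinearGroup (Fin 7) K, A = X * Y ∧
      X.1.charpoly = f ∧ Y.1.charpoly = f := by
  classical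
  have : Fact (Nat.Prime 2) := ⟨Nat.prime_two⟩
  let σ : ZMod 2 ≃+* K := ZMod.ringEquivOfPrime K Nat.prime_two hK
  refine ⟨(mono (zl lSeven)).map (σ : ZMod 2 →+* K), ?_, fun A hA => ?_⟩
  · have h1 := (MulEquiv.irreducible_iff (Polynomial.mapEquiv σ)).2 irrSeven
    exact h1
  · have hdet : (A.1.map σ.symm).det ≠ 0 := by
      have h1 : (A.1.map σ.symm).det = σ.symm A.1.det := by
        exact (RingHom.map_det (σ.symm : K →+* ZMod 2) A.1).symm
      rw [h1, A.2, map_one]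
      exact one_ne_zero
    have hne : A.1.map σ.symm ≠ 1 := by
      intro h
      apply hA
      have h2 : (A.1.map σ.symm).map σ = (1 : Matrix (Fin 7) (Fin 7) (ZMod 2)).map σ := by rw [h]
      rw [Matrix.map_map, Matrix.map_one σ (map_zero σ) (map_one σ)] at h2
      have h3 : A.1 = 1 := by
        rw [← h2]
        ext i j
        simp
      exact Subtype.ext h3
    obtain ⟨X, Y, e, hX, hY⟩ := prodSeven _ hdet hne
    have hXY : X.map σ * Y.map σ = A.1 := by
      have h3 : (X * Y).map σ = X.map σ * Y.map σ := Matrix.map_mul (f := (σ : ZMod 2 →+* K))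
      rw [← h3, ← e, Matrix.map_map]
      ext i j
      simp
    have hd : (X.map σ).det * (Y.map σ).det = 1 := by rw [← det_mul, hXY, A.2]
    refine ⟨⟨X.map σ, eq_one_of_ne_zero hK (left_ne_zero_of_mul_eq_one hd)⟩,
      ⟨Y.map σ, eq_one_of_ne_zero hK (right_ne_zero_of_mul_eq_one hd)⟩, Subtype.ext hXY.symm, ?_, ?_⟩
    · rw [← hX]
      exact Matrix.charpoly_map X (σ : ZMod 2 →+* K)
    · rw [← hY]
      exact Matrix.charpoly_map Y (σ : ZMod 2 →+* K)

/-- the kernel of a nontrivial homomorphism contains no element of the class -/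
theorem ne_one_of_class (hK : Fintype.card K = 2) {f : K[X]} (hf : Irreducible f)
    (hprod : ∀ A : SpecialLinearGroup (Fin 7) K, A ≠ 1 → ∃ X Y : SpecialLinearGroup (Fin 7) K, A = X * Y ∧
      X.1.charpoly = f ∧ Y.1.charpoly = f) {Y : Type*} [Group Y] {φ : SpecialLinearGroup (Fin 7) K →* Y}
    (hφ : ∃ A, φ A ≠ 1) {X : SpecialLinearGroup (Fin 7) K} (hX : X.1.charpoly = f) : φ X ≠ 1 := by
  intro h1
  obtain ⟨A, hA⟩ := hφ
  have key : ∀ Z : SpecialLinearGroup (Fin 7) K, Z.1.charpoly = f → φ Z = 1 := by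
    intro Z hZ
    obtain ⟨P, rfl⟩ := exists_conj_SL hK (X := X) (by rw [hX]; exact hf) (hZ.trans hX.symm)
    rw [map_mul, map_mul, h1, mul_one, map_inv, mul_inv_cancel]
  obtain ⟨Z, Z', rfl, hZ, hZ'⟩ := hprod A (fun h => hA (by rw [h, map_one]))
  apply hA
  rw [map_mul, key Z hZ, key Z' hZ', mul_one]

end Cfsg.Agent.H267.Ore
end

-- part: H267/Ore/ESevenTwo
section
/-!
# `E₇(2)`: all elements are commutators and products of four elements of square one (helper267; S2443, S4171)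

`c = φ(X)`, `X ∈ SL_7(2)` irreducible, has order `127` and the centraliser of every element of order `127` is cyclic of
order `127`, hence `c` has no fixed points on the unipotent radicals of the parabolic subgroup of type `A₆`.  The longest
element `w₀ = -1` and a symmetric intertwiner of `X` give an involution inverting `c`.
-/

set_option autoImplicit false
set_option linter.unusedSectionVars false

namespace Cfsg.Agent.H267.Ore

open CoxeterSystem Cfsg.Agent.ChevalleyStructure.CoxeterGeom Cfsg.Agent.Tits.Roots Cfsg.Agent.Tits.Core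
  Cfsg.Agent.Nodes.Reps Cfsg.Agent.Nodes.BNOf Cfsg.Agent.Nodes.StabComb Cfsg.Agent.Nodes.RGDLib Cfsg.Agent.Nodes.Bruhat
  Cfsg.Agent.Nodes.OppDec Cfsg.Agent.Nodes.LeviDec Cfsg.Agent.Nodes.KindChev Cfsg.Agent.Nodes.ChevCls
  Cfsg.Agent.OddHalf.NI.ModelChev
  Cfsg.Agent.H162.GaussDec Cfsg.Agent.H162.GaussLevi Cfsg.Agent.H162.GaussSL
  Cfsg.Agent.H162.GaussMain Cfsg.Agent.H162.GaussExc Cfsg.Agent.H162.GaussExcMain
open Cfsg.Lie Cfsg.Agent.ChevalleyStructure Cfsg.Agent.ChevalleyStructure.Elts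
  Cfsg.Agent.ChevalleyStructure.RootVec Cfsg.Agent.ChevalleyStructure.NPerm
  Cfsg.Agent.ChevalleyStructure.CoxeterGeomTypes Cfsg.Agent.Nodes.RGDChev Cfsg.Agent.KFacts.RgdChevCoord
open Cfsg.Agent.H129.CycT Cfsg.Agent.H335.Sr Cfsg.Agent.H777.Ore Cfsg.Agent.H928.Ore.Frame

universe u

/-! ### Elements of order `r` -/

/-- an exact cyclic torus of prime order: elements commuting with an element of order `r` have `x ^ r = 1` -/
theorem pow_of_exact {G : Type*} [Group G] [Finite G] {r : ℕ} [hr : Fact r.Prime] (h : CycExact G r) {c x : G}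
    (hc : c ^ r = 1) (hc1 : c ≠ 1) (hx : c * x * c⁻¹ = x) : x ^ r = 1 := by
  obtain ⟨T, hT, hTm, hTc⟩ := h
  have hTp : IsPGroup r ↥T := IsPGroup.of_card (n := 1) (by rw [hTm, pow_one])
  obtain ⟨P, hP⟩ := hTp.exists_le_sylow
  obtain ⟨y, hy, hy1⟩ : ∃ y ∈ T, y ≠ 1 := by
    have : Nontrivial ↥T := Finite.one_lt_card_iff_nontrivial.1 (by rw [hTm]; exact hr.out.one_lt)
    obtain ⟨y, hy⟩ := exists_ne (1 : ↥T)
    exact ⟨y, y.2, fun h => hy (Subtype.ext h)⟩
  have hPT : (P : Subgroup G) ≤ T := by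
    have hPp := P.isPGroup'
    have : Nontrivial ↥(P : Subgroup G) := ⟨⟨⟨y, hP hy⟩, 1, fun h => hy1 (congrArg Subtype.val h)⟩⟩
    have : Nontrivial (Subgroup.center ↥(P : Subgroup G)) := hPp.center_nontrivial
    obtain ⟨z, hz⟩ := exists_ne (1 : Subgroup.center ↥(P : Subgroup G))
    obtain ⟨⟨z, hzP⟩, hzc⟩ := z
    have hz1 : z ≠ 1 := fun h => hz (Subtype.ext (Subtype.ext h))
    have hzc' : ∀ g ∈ (P : Subgroup G), g * z = z * g := fun g hg =>
      congrArg Subtype.val (Subgroup.mem_center_iff.1 hzc ⟨g, hg⟩)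
    have hzT : z ∈ T := by
      rw [← hTc y hy hy1, Subgroup.mem_centralizer_singleton_iff]
      exact (hzc' y (hP hy)).symm
    intro g hg
    rw [← hTc z hzT hz1, Subgroup.mem_centralizer_singleton_iff]
    exact hzc' g hg
  have hcp : IsPGroup r ↥(Subgroup.zpowers c) := by
    rintro ⟨a, k, rfl⟩
    refine ⟨1, Subtype.ext ?_⟩
    change (c ^ k) ^ r ^ 1 = 1
    rw [pow_one, ← zpow_natCast, ← zpow_mul, mul_comm, zpow_mul, zpow_natCast, hc, one_zpow]
  obtain ⟨Q, hQ⟩ := hcp.exists_le_sylow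
  obtain ⟨g, hg⟩ := MulAction.exists_smul_eq G P Q
  have h1 : c ∈ (Q : Subgroup G) := hQ (Subgroup.mem_zpowers c)
  rw [← hg, Sylow.coe_subgroup_smul] at h1
  obtain ⟨d, hd, hdc⟩ := h1
  have hdc' : g * d * g⁻¹ = c := hdc
  have hd1 : d ≠ 1 := by
    rintro rfl
    exact hc1 (by rw [← hdc']; group)
  have h2 : g⁻¹ * x * g ∈ Subgroup.centralizer {d} := by
    rw [Subgroup.mem_centralizer_singleton_iff]
    have h3 : c * x = x * c := by rw [mul_inv_eq_iff_eq_mul] at hx; exact hx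
    rw [← hdc'] at h3
    calc g⁻¹ * x * g * d = g⁻¹ * (x * (g * d * g⁻¹)) * g := by group
      _ = g⁻¹ * (g * d * g⁻¹ * x) * g := by rw [h3]
      _ = d * (g⁻¹ * x * g) := by group
  rw [hTc d (hPT hd) hd1] at h2
  have h3 : (⟨g⁻¹ * x * g, h2⟩ : ↥T) ^ r = 1 := by rw [← hTm]; exact pow_card_eq_one'
  have h4 : (g⁻¹ * x * g) ^ r = 1 := congrArg Subtype.val h3
  have h5 : g⁻¹ * x * g = g⁻¹ * x * g⁻¹⁻¹ := by rw [inv_inv]
  rw [h5, conj_pow, conj_eq_one_iff] at h4
  exact h4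

/-- no fixed points on `p`-subgroups -/
theorem nf_of_exact {G : Type*} [Group G] [Finite G] {r p : ℕ} [hr : Fact r.Prime] [hp : Fact p.Prime] (hne : r ≠ p)
    (h : CycExact G r) {c : G} (hc : c ^ r = 1) (hc1 : c ≠ 1) {V : Subgroup G} (hV : IsPGroup p ↥V) : NF V c := by
  intro x hx hcx
  have h1 := pow_of_exact h hc hc1 hcx
  obtain ⟨k, hk⟩ := hV ⟨x, hx⟩
  have h2 : x ^ p ^ k = 1 := congrArg Subtype.val hk
  have h3 : orderOf x ∣ r := orderOf_dvd_of_pow_eq_one h1
  have h4 : orderOf x ∣ p ^ k := orderOf_dvd_of_pow_eq_one h2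
  have h5 : Nat.Coprime r (p ^ k) := ((Nat.coprime_primes hr.out hp.out).2 hne).pow_right k
  exact orderOf_eq_one_iff.1 (Nat.dvd_one.1 (h5 ▸ Nat.dvd_gcd h3 h4))

/-- an element inverted by an element of square one is a product of two elements of square one -/
theorem two_of_inv {G : Type*} [Group G] {c t : G} (ht : t * t = 1) (htc : t * c * t⁻¹ = c⁻¹) :
    ∃ a b : G, a ^ 2 = 1 ∧ b ^ 2 = 1 ∧ c = a * b := by
  refine ⟨c * t, t, ?_, by rw [pow_two, ht], by rw [mul_assoc, ht, mul_one]⟩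
  have hti : t⁻¹ = t := inv_eq_of_mul_eq_one_left ht
  calc (c * t) ^ 2 = c * (t * c * t⁻¹) * (t * t) := by rw [pow_two]; group
    _ = 1 := by rw [htc, ht]; group

/-! ### The group -/

section

variable {K : Type u} [Field K] [Fintype K]

theorem exists_wneg (hp : IsType chevE7 7 CoxeterMatrix.E₇) {W : Type*} [Group W]
    (cs : CoxeterSystem CoxeterMatrix.E₇ W) : ∃ w : W, ∀ x : Fin 7 → ℤ, rep cs hp.isCartan w x = -x := by
  refine ⟨cs.wordProd w7, fun x => ?_⟩
  have h1 : rep cs hp.isCartan (cs.wordProd w7) = - LinearMap.id := by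
    refine LinearMap.pi_ext' fun i => ?_
    refine LinearMap.ext_ring ?_
    change rep cs hp.isCartan (cs.wordProd w7) (Pi.single i 1) = - (Pi.single i 1)
    have h2 : (Pi.single i 1 : Fin 7 → ℤ) = vec chevE7 7 (chevE7.simple i) := (vec_simple hp i).symm
    have h3 := simple_lt hp.inList (lt_rank hp i)
    rw [h2, ← fr_vec hp cs w7 h3, w7_neg, vec_neg hp h3]
  rw [h1]
  rfl

theorem isPGroup_UN {I W Y : Type*} [Fintype I] [DecidableEq I] [Group W] [Group Y] {M : CoxeterMatrix I}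
    {cs : CoxeterSystem M W} {A : I → I → ℤ} {h : IsCartan M A} {p : ℕ} {T : Subgroup Y} {n : I → Y}
    {X : (I → ℤ) → Subgroup Y} [Finite W] (R : RGD cs h p T n X) {w : W} (hw : ∀ x, rep cs h w x = -x) :
    IsPGroup p ↥(UN cs h X) :=
  Cfsg.Agent.Nodes.PosPair.isPGroup_of_rep R w fun x hx => ⟨hx.1, by rw [hw]; exact neg_nonneg.2 hx.2⟩

/-- **The data for `E₇(2)`.** -/
theorem key (hK : Fintype.card K = 2) [Fact (Nat.Prime 2)] [CharP K 2] :
    ∀ v ∈ UNJ CoxeterMatrix.E₇.toCoxeterSystem Cfsg.Agent.Nodes.KindE.isType7.isCartan (XX chevE7 7 K) {k | k ∈ jS},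
    ∀ u ∈ UJ CoxeterMatrix.E₇.toCoxeterSystem Cfsg.Agent.Nodes.KindE.isType7.isCartan (XX chevE7 7 K) {k | k ∈ jS},
    ∃ c₁ c₂, v * u = c₁ * c₂ ∧
      LP CoxeterMatrix.E₇.toCoxeterSystem Cfsg.Agent.Nodes.KindE.isType7.isCartan (TT chevE7 K) (XX chevE7 7 K)
        {k | k ∈ jS} c₁ c₂ ∧ (∃ y, c₂ = y * c₁⁻¹ * y⁻¹) ∧
      (∃ a b : ↥(chevE7.group K), a ^ 2 = 1 ∧ b ^ 2 = 1 ∧ c₁ = a * b) ∧
      (∃ a b : ↥(chevE7.group K), a ^ 2 = 1 ∧ b ^ 2 = 1 ∧ c₂ = a * b) ∧ c₁ ^ 127 = 1 ∧ c₂ ^ 127 = 1 := by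
  have hp := Cfsg.Agent.Nodes.KindE.isType7
  have := finite_W hp CoxeterMatrix.E₇.toCoxeterSystem
  have R := rgd (K := K) hp CoxeterMatrix.E₇.toCoxeterSystem 2
  obtain ⟨φ, hφ⟩ := exists_hom_D hp (K := K) (ε := -1) (by norm_num) rtS.1 rtS.2.1 rtS.2.2.1 rtS.2.2.2
  have TB := chkS1.tab chkS2
  have hε : ∀ a b : Fin 7, (fun _ _ : Fin 7 => (((-1 : ℤ)) : K)) a b ≠ 0 := fun _ _ => by simp
  have hφ' : ∀ a b (hab : a ≠ b) c, φ (Matrix.SpecialLinearGroup.transvection hab c) =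
      xc hp (vec chevE7 7 (rS a b)) ((fun _ _ : Fin 7 => (((-1 : ℤ)) : K)) a b * c) := hφ
  have hUJ : UJ CoxeterMatrix.E₇.toCoxeterSystem hp.isCartan (XX chevE7 7 K) {k | k ∈ jS} ≤ (UT 7 K).map φ :=
    RGD.Sup_le fun r hr => up_phi hp TB hε hφ' r hr
  have hUNJ : UNJ CoxeterMatrix.E₇.toCoxeterSystem hp.isCartan (XX chevE7 7 K) {k | k ∈ jS} ≤ (LT 7 K).map φ :=
    RGD.Sup_le fun r hr => by
      have := lo_phi hp TB hε hφ' (-r) hr
      rwa [_root_.neg_neg] at this
  obtain ⟨f, hf, hprod⟩ := exists_prod_seven hK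
  -- the involution
  obtain ⟨w, hw⟩ := exists_wneg hp CoxeterMatrix.E₇.toCoxeterSystem
  have hN : NSys CoxeterMatrix.E₇ (TT chevE7 K) (nc hp K) := R.nsys
  obtain ⟨ε, z, Z⟩ := exists_ZD_neg hp CoxeterMatrix.E₇.toCoxeterSystem (K := K) hN hw
  have hinv : ∀ X : Matrix.SpecialLinearGroup (Fin 7) K, X.1.charpoly = f →
      ∃ t : ↥(chevE7.group K), t * t = 1 ∧ t * φ X * t⁻¹ = (φ X)⁻¹ := by
    intro X hX
    obtain ⟨S, h1, h2⟩ := Z.inv_block (n := 5) (r := rS) (s := fun _ _ => ((-1 : ℤ) : K)) (φ := φ)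
      rtS.1 rtS.2.2.2 (fun a b hab => hw _) (fun a b _ => by simp) hφ' (fun i => rfl) (s₀ := 1) (one_mem _)
      (fun i => rfl) (fun A => by rw [one_mul, mul_one]) (X := X)
      (fun δ hδ => exists_symm X.1 (by rw [hX]; exact hf) δ)
    rw [one_mul] at h2
    exact ⟨_, h1, h2⟩
  -- fixed points
  have : Fact (Nat.Prime 127) := ⟨by norm_num⟩
  have hex : CycExact ↥(chevE7.group K) 127 := exact_E7_7 hK (by norm_num) (N := 127) (by norm_num)
  have hφ1 : ∃ A, φ A ≠ 1 := by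
    refine ⟨Matrix.SpecialLinearGroup.transvection (show (0 : Fin 7) ≠ 1 by decide) 1, fun h => ?_⟩
    have h01 := rtS.1 0 1 (by decide)
    rw [hφ, ← xc_zero hp h01] at h
    have h2 := xc_inj hp h01 h
    revert h2
    simp
  have hVU := R.isPGroup_Upos.to_le (VJ_le_U (cs := CoxeterMatrix.E₇.toCoxeterSystem) (h := hp.isCartan)
    (X := XX chevE7 7 K) {k | k ∈ jS})
  have hVN := (isPGroup_UN R hw).to_le
    (VNJ_le_UN (cs := CoxeterMatrix.E₇.toCoxeterSystem) (h := hp.isCartan) (X := XX chevE7 7 K) {k | k ∈ jS})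
  have hpow : ∀ X : Matrix.SpecialLinearGroup (Fin 7) K, X.1.charpoly = f → (φ X) ^ 127 = 1 := by
    intro X hX
    rw [← map_pow, pow_127 hK (by rw [hX]; exact hf), map_one]
  have hnf : ∀ X : Matrix.SpecialLinearGroup (Fin 7) K, X.1.charpoly = f →
      NF (VNJ CoxeterMatrix.E₇.toCoxeterSystem hp.isCartan (XX chevE7 7 K) {k | k ∈ jS}) (φ X) ∧
      NF (VJ CoxeterMatrix.E₇.toCoxeterSystem hp.isCartan (XX chevE7 7 K) {k | k ∈ jS}) (φ X) := by
    intro X hX
    have h1 := hpow X hX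
    have h2 : φ X ≠ 1 := ne_one_of_class hK hf hprod hφ1 hX
    exact ⟨nf_of_exact (by norm_num) hex h1 h2 hVN, nf_of_exact (by norm_num) hex h1 h2 hVU⟩
  have hmem := phi_mem hp TB hφ'
  -- products
  have main : ∀ A : Matrix.SpecialLinearGroup (Fin 7) K, ∃ c₁ c₂, φ A = c₁ * c₂ ∧
      LP CoxeterMatrix.E₇.toCoxeterSystem hp.isCartan (TT chevE7 K) (XX chevE7 7 K) {k | k ∈ jS} c₁ c₂ ∧
      (∃ y, c₂ = y * c₁⁻¹ * y⁻¹) ∧
      (∃ a b : ↥(chevE7.group K), a ^ 2 = 1 ∧ b ^ 2 = 1 ∧ c₁ = a * b) ∧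
      (∃ a b : ↥(chevE7.group K), a ^ 2 = 1 ∧ b ^ 2 = 1 ∧ c₂ = a * b) ∧ c₁ ^ 127 = 1 ∧ c₂ ^ 127 = 1 := by
    intro A
    by_cases hA : A = 1
    · obtain ⟨A', hA'⟩ := hφ1
      obtain ⟨X, -, -, hX, -⟩ := hprod A' (fun h => hA' (by rw [h, map_one]))
      obtain ⟨t, ht, htX⟩ := hinv X hX
      have htX' : t * (φ X)⁻¹ * t⁻¹ = (φ X)⁻¹⁻¹ := by
        calc t * (φ X)⁻¹ * t⁻¹ = (t * φ X * t⁻¹)⁻¹ := by group
          _ = _ := by rw [htX]
      refine ⟨φ X, (φ X)⁻¹, by rw [hA, map_one, mul_inv_cancel], ⟨hmem X, inv_mem (hmem X), (hnf X hX).1, ?_⟩,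
        ⟨1, by group⟩, two_of_inv ht htX, two_of_inv ht htX', hpow X hX, by rw [inv_pow, hpow X hX, inv_one]⟩
      intro x hx hcx
      refine (hnf X hX).2 x hx ?_
      calc φ X * x * (φ X)⁻¹ = φ X * ((φ X)⁻¹ * x * (φ X)⁻¹⁻¹) * (φ X)⁻¹ := by rw [hcx]
        _ = x := by group
    · obtain ⟨X, Y, rfl, hX, hY⟩ := hprod A hA
      obtain ⟨t, ht, htX⟩ := hinv X hX
      obtain ⟨t', ht', htY⟩ := hinv Y hY
      obtain ⟨P, hP⟩ := exists_conj_SL hK (X := X) (Y := Y) (by rw [hX]; exact hf) (hY.trans hX.symm)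
      refine ⟨φ X, φ Y, map_mul φ X Y, ⟨hmem X, hmem Y, (hnf X hX).1, (hnf Y hY).2⟩, ⟨φ P * t⁻¹, ?_⟩,
        two_of_inv ht htX, two_of_inv ht' htY, hpow X hX, hpow Y hY⟩
      rw [hP, map_mul, map_mul, map_inv, ← htX]
      group
  intro v hv u hu
  obtain ⟨L, hL, rfl⟩ := hUNJ hv
  obtain ⟨U, hU', rfl⟩ := hUJ hu
  rw [← map_mul]
  exact main (L * U)

theorem card_two_charP (hK : Fintype.card K = 2) : CharP K 2 := by
  obtain ⟨p, hp⟩ := CharP.exists K
  have hpp : p.Prime := (CharP.char_is_prime_or_zero K p).resolve_right (CharP.char_ne_zero_of_finite K p)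
  have : Fact p.Prime := ⟨hpp⟩
  obtain ⟨n, -, hn⟩ := FiniteField.card K p
  rw [hK] at hn
  have h1 : p ∣ 2 := by rw [hn]; exact dvd_pow_self p n.pos.ne'
  have h2 := (Nat.prime_dvd_prime_iff_eq hpp Nat.prime_two).1 h1
  rwa [h2] at hp

theorem not_core {p : ℕ} [Fact p.Prime] [CharP K p] {g : ↥(chevE7.group K)} (hg : g ≠ 1) :
    g ∉ (RGD.B CoxeterMatrix.E₇.toCoxeterSystem Cfsg.Agent.Nodes.KindE.isType7.isCartan (TT chevE7 K)
      (XX chevE7 7 K)).normalCore := by
  have hp := Cfsg.Agent.Nodes.KindE.isType7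
  have := finite_W hp CoxeterMatrix.E₇.toCoxeterSystem
  have R := rgd (K := K) hp CoxeterMatrix.E₇.toCoxeterSystem p
  have hsim := Cfsg.Agent.S1054.result (F := K) chevE7 (by simp)
  have := hsim.1
  intro h1
  have h2 := core_le_ker R (MonoidHom.id ↥(chevE7.group K)) Function.surjective_id (fun x hx => by
    rw [MonoidHom.mem_ker] at hx
    change x = 1 at hx
    rw [hx]
    exact one_mem _) h1
  exact hg h2

/-- **Ore's theorem for `E₇(2)`.** -/
theorem allC_E7_two (hK : Fintype.card K = 2) : AllC ↥(chevE7.group K) := by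
  have : Fact (Nat.Prime 2) := ⟨Nat.prime_two⟩
  have : CharP K 2 := card_two_charP hK
  have hp := Cfsg.Agent.Nodes.KindE.isType7
  have := finite_W hp CoxeterMatrix.E₇.toCoxeterSystem
  intro g
  by_cases hg : g = 1
  · rw [hg]; exact isC_one
  · exact comm (rgd (K := K) hp CoxeterMatrix.E₇.toCoxeterSystem 2) (G1_eq_top hp _) (coord hp)
      (Cfsg.Agent.Nodes.ChevChart.irr_of Cfsg.Agent.Nodes.ChevChart.irr7)
      (fun v hv u hu => by
        obtain ⟨c₁, c₂, h1, h2, h3, -, -, -, -⟩ := key hK v hv u hu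
        exact ⟨c₁, c₂, h1, h2, h3⟩) (not_core (p := 2) hg)

/-- **`E₇(2)`: every element is a product of four elements of square one.** -/
theorem inv4_E7_two (hK : Fintype.card K = 2) : Inv4 ↥(chevE7.group K) := by
  have : Fact (Nat.Prime 2) := ⟨Nat.prime_two⟩
  have : CharP K 2 := card_two_charP hK
  have hp := Cfsg.Agent.Nodes.KindE.isType7
  have := finite_W hp CoxeterMatrix.E₇.toCoxeterSystem
  intro g
  by_cases hg : g = 1
  · exact ⟨1, 1, 1, 1, by simp, by simp, by simp, by simp, by simp [hg]⟩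
  · obtain ⟨a, b, c, d, ha, hb, hc, hd, e⟩ := four (rgd (K := K) hp CoxeterMatrix.E₇.toCoxeterSystem 2)
      (G1_eq_top hp _) (coord hp) (Cfsg.Agent.Nodes.ChevChart.irr_of Cfsg.Agent.Nodes.ChevChart.irr7)
      (fun v hv u hu => by
        obtain ⟨c₁, c₂, h1, h2, -, h4, h5, -, -⟩ := key hK v hv u hu
        exact ⟨c₁, c₂, h1, h2, h4, h5⟩) (not_core (p := 2) hg)
    exact ⟨a, b, c, d, by rw [← pow_two, ha], by rw [← pow_two, hb], by rw [← pow_two, hc], by rw [← pow_two, hd], e⟩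

/-- **`E₇(2)`: every element is a product of two elements of order dividing `127`.** -/
theorem pair_E7_two (hK : Fintype.card K = 2) (g : ↥(chevE7.group K)) :
    ∃ a b : ↥(chevE7.group K), g = a * b ∧ a ^ 127 = 1 ∧ b ^ 127 = 1 := by
  have : Fact (Nat.Prime 2) := ⟨Nat.prime_two⟩
  have : CharP K 2 := card_two_charP hK
  have hp := Cfsg.Agent.Nodes.KindE.isType7
  have := finite_W hp CoxeterMatrix.E₇.toCoxeterSystem
  by_cases hg : g = 1
  · exact ⟨1, 1, by rw [hg, mul_one], one_pow _, one_pow _⟩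
  · obtain ⟨c₁, c₂, x, y, ⟨h1, h2⟩, e⟩ := pair (rgd (K := K) hp CoxeterMatrix.E₇.toCoxeterSystem 2)
      (G1_eq_top hp _) (coord hp) (Cfsg.Agent.Nodes.ChevChart.irr_of Cfsg.Agent.Nodes.ChevChart.irr7)
      (Pr := fun c₁ c₂ => c₁ ^ 127 = 1 ∧ c₂ ^ 127 = 1)
      (fun v hv u hu => by
        obtain ⟨c₁, c₂, h1, h2, -, -, -, h6, h7⟩ := key hK v hv u hu
        exact ⟨c₁, c₂, h1, h2, h6, h7⟩) (not_core (p := 2) hg)
    exact ⟨_, _, e, by rw [conj_pow, h1, mul_one, mul_inv_cancel], by rw [conj_pow, h2, mul_one, mul_inv_cancel]⟩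

end

end Cfsg.Agent.H267.Ore
end
end
end
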