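import Cfsg.Agent.H85.Ore.Phi_mg_m3
import Cfsg.Agent.H958.TS.TwCommon
import Cfsg.Agent.H91.E6Fix
import Cfsg.Agent.FastGrp
import Cfsg.Agent.Prune
set_option linter.all false

section
prune_inst 0x7f00000000000000000000000000000000000000000000000000000000000000000000000000000000000000000000000000000000000000000000000000000000000000000000000000000000000000003fffffffffffffffffffffffffffbeffbdffffffff

-- part: H928/Ore/TwE
section
set_option linter.all false
open scoped Cfsg.Agent.FastGrp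

/-!
`²E₆(q)` inside `E₆(q²)` (S2443, S4171).

* `inc` : the inclusion; `sgY` : the twisted graph automorphism of `E₆(K)`; `exists_inc` : fixed elements are in the image;
* `VJ_le`, `VNJ_le` : the unipotent radicals of `J = {0, 1}` are contained in those of the block `{1, 3}` of `E₆(K)`;
* `gen6` : `E₆(K)` is generated by the simple root groups and their opposites.
-/

set_option autoImplicit false
set_option linter.unusedSectionVars false

namespace Cfsg.Agent.H928.Ore.TwE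

open CoxeterSystem Cfsg.Agent.ChevalleyStructure.CoxeterGeom Cfsg.Agent.Tits.Roots Cfsg.Agent.Tits.Core
  Cfsg.Agent.Nodes Cfsg.Agent.Nodes.Reps Cfsg.Agent.Nodes.BNOf Cfsg.Agent.Nodes.RGDLib Cfsg.Agent.Nodes.Bruhat
  Cfsg.Agent.Nodes.OppDec Cfsg.Agent.Nodes.LeviDec Cfsg.Agent.Nodes.StabComb Cfsg.Agent.Nodes.KindChev
  Cfsg.Agent.Nodes.ChevCls
  Cfsg.Agent.OddHalf.NI.ModelChev
  Cfsg.Agent.H162.GaussDec Cfsg.Agent.H162.GaussLevi Cfsg.Agent.H162.GaussSL Cfsg.Agent.H162.GaussReg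
  Cfsg.Agent.H928.Ore.Frame Cfsg.Agent.H928.Ore.Fix Cfsg.Agent.H928.Ore.Block
open Cfsg.Lie Cfsg.Agent.ChevalleyStructure Cfsg.Agent.ChevalleyStructure.Elts
  Cfsg.Agent.ChevalleyStructure.NPerm
  Cfsg.Agent.ChevalleyStructure.CoxeterGeomTypes Cfsg.Agent.Nodes.RGDChev Cfsg.Agent.KFacts.RgdChevCoord
open Cfsg.Agent.Nodes.RGDTwGen Cfsg.Agent.Nodes.RGDFold Cfsg.Agent.Nodes.RGDTwE6
open Cfsg.Agent.ChevalleyStructure.TwistedU Cfsg.Agent.ChevalleyStructure.TwistedFix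
open Cfsg.Agent.ChevalleyStructure.TwE6Basic (sg hE6 epsE)
open Cfsg.Agent.FixBN.FieldRGD (uu vv dd ww)

open scoped MatrixGroups

universe u

variable {K : Type u} [Field K]

/-- the inclusion -/
noncomputable def inc (K : Type u) [Field K] (q : ℕ) : ↥(twistedE6 K q) →* ↥(chevE6.group K) :=
  Subgroup.inclusion (H91.E6Fix.twistedE6_le_group K q)

theorem inc_injective (q : ℕ) : Function.Injective (inc K q) := Subgroup.inclusion_injective _

/-! ### The unipotent radicals -/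

theorem X_le {φ : K →+* K} {q : ℕ} {z : Fin 4 → ℤ} {H : Subgroup ↥(chevE6.group K)}
    (h : ∀ r < chevE6.nroots, V chevE6 J r = z → XX chevE6 6 K (vec chevE6 6 r) ≤ H) :
    X φ q z ≤ H.comap (inc K q) := by
  intro y hy
  have h1 : (y : GL chevE6.Idx K) ∈ rspan (xG (F := K) RGDTwE6.hp.inList) {k | k < chevE6.nroots ∧ V chevE6 J k = z} :=
    (Subgroup.mem_subgroupOf.1 hy).1
  have h2 : rspan (xG (F := K) RGDTwE6.hp.inList) {k | k < chevE6.nroots ∧ V chevE6 J k = z} ≤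
      H.map (chevE6.group K).subtype := by
    refine rspan_le _ fun r hr t => ?_
    refine ⟨xc RGDTwE6.hp (vec chevE6 6 r) t, h r hr.1 hr.2 ((mem_XX RGDTwE6.hp hr.1 _).2 ⟨_, rfl⟩), ?_⟩
    exact coe_xc RGDTwE6.hp hr.1 t
  obtain ⟨s, hs, e⟩ := h2 h1
  have e2 : s = inc K q y := Subtype.ext e
  rw [Subgroup.mem_comap, ← e2]
  exact hs

theorem tabV : ∀ r < chevE6.nroots, (∀ k : Fin 4, 0 ≤ V chevE6 J r k) →
    (∃ k : Fin 4, (k ≠ 0 ∧ k ≠ 1) ∧ 0 < V chevE6 J r k) →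
    (∀ k : Fin 6, 0 ≤ vec chevE6 6 r k) ∧ ∃ k : Fin 6, (k ≠ 1 ∧ k ≠ 3) ∧ 0 < vec chevE6 6 r k := by
  have h : ∀ r : Fin 72, (∀ k : Fin 4, 0 ≤ V chevE6 J r k) →
    (∃ k : Fin 4, (k ≠ 0 ∧ k ≠ 1) ∧ 0 < V chevE6 J r k) →
    (∀ k : Fin 6, 0 ≤ vec chevE6 6 r k) ∧ ∃ k : Fin 6, (k ≠ 1 ∧ k ≠ 3) ∧ 0 < vec chevE6 6 r k := by decide +kernel
  exact fun r hr => h ⟨r, hr⟩

theorem tabVN : ∀ r < chevE6.nroots, (∀ k : Fin 4, V chevE6 J r k ≤ 0) →
    (∃ k : Fin 4, (k ≠ 0 ∧ k ≠ 1) ∧ V chevE6 J r k < 0) →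
    (∀ k : Fin 6, vec chevE6 6 r k ≤ 0) ∧ ∃ k : Fin 6, (k ≠ 1 ∧ k ≠ 3) ∧ vec chevE6 6 r k < 0 := by
  have h : ∀ r : Fin 72, (∀ k : Fin 4, V chevE6 J r k ≤ 0) →
    (∃ k : Fin 4, (k ≠ 0 ∧ k ≠ 1) ∧ V chevE6 J r k < 0) →
    (∀ k : Fin 6, vec chevE6 6 r k ≤ 0) ∧ ∃ k : Fin 6, (k ≠ 1 ∧ k ≠ 3) ∧ vec chevE6 6 r k < 0 := by decide +kernel
  exact fun r hr => h ⟨r, hr⟩

/-- the relative block -/
def JR : Set (Fin 4) := {k | k = 0 ∨ k = 1}

/-- the absolute block -/
def JA : Set (Fin 6) := {k | k = 1 ∨ k = 3}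

variable {W : Type*} [Group W] (cs : CoxeterSystem CoxeterMatrix.F₄ W)

theorem VJ_le (φ : K →+* K) (q : ℕ) : VJ cs RGDTwE6.isCartan (X φ q) JR ≤
    (VJ CoxeterMatrix.E₆.toCoxeterSystem RGDTwE6.hp.isCartan (XX chevE6 6 K) JA).comap (inc K q) := by
  refine RGD.Sup_le fun z hz => X_le fun r hr hrz => ?_
  obtain ⟨-, h0, k, hk, hk0⟩ := hz
  obtain ⟨h1, k', hk', h2⟩ := tabV r hr (fun k => by rw [hrz]; exact h0 k)
    ⟨k, ⟨fun h => hk (Or.inl h), fun h => hk (Or.inr h)⟩, by rw [hrz]; exact hk0⟩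
  refine RGD.le_Sup ⟨isRoot_vec RGDTwE6.hp _ hr, fun k => h1 k, k', fun h => ?_, h2⟩
  rcases h with h | h
  · exact hk'.1 h
  · exact hk'.2 h

theorem VNJ_le (φ : K →+* K) (q : ℕ) : VNJ cs RGDTwE6.isCartan (X φ q) JR ≤
    (VNJ CoxeterMatrix.E₆.toCoxeterSystem RGDTwE6.hp.isCartan (XX chevE6 6 K) JA).comap (inc K q) := by
  refine RGD.Sup_le fun z hz => X_le fun r hr hrz => ?_
  obtain ⟨-, h0, k, hk, hk0⟩ := hz
  obtain ⟨h1, k', hk', h2⟩ := tabVN r hr (fun k => by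
      have := h0 k
      rw [hrz]
      simpa using this)
    ⟨k, ⟨fun h => hk (Or.inl h), fun h => hk (Or.inr h)⟩, by rw [hrz]; simpa using hk0⟩
  refine RGD.le_Sup ⟨(isRoot_vec RGDTwE6.hp _ hr).neg, fun k => ?_, k', fun h => ?_, ?_⟩
  · have := h1 k
    simpa using this
  · rcases h with h | h
    · exact hk'.1 h
    · exact hk'.2 h
  · simpa using h2

/-! ### The automorphism -/

theorem sg_mem (φ : K →+* K) {g : GL chevE6.Idx K} (hg : g ∈ chevE6.group K) : sg φ g ∈ chevE6.group K := by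
  have h1 : chevE6.group K ≤ (chevE6.group K).comap (sg φ) := by
    refine (group_le_iff hE6 _).2 fun r hr t => ?_
    change sg φ (xG hE6 r t) ∈ chevE6.group K
    rw [H91.E6Fix.sg_xG φ hr]
    exact xG_mem_group hE6 _ _
  exact h1 hg

/-- the twisted graph automorphism -/
noncomputable def sgY (φ : K →+* K) : ↥(chevE6.group K) →* ↥(chevE6.group K) :=
  ((sg φ).comp (chevE6.group K).subtype).codRestrict (chevE6.group K) fun y => sg_mem φ y.2

theorem sgY_xc (φ : K →+* K) {r : ℕ} (hr : r < 72) (t : K) : sgY φ (xc RGDTwE6.hp (vec chevE6 6 r) t) =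
    xc RGDTwE6.hp (vec chevE6 6 (H91.E6Fix.rho r)) (((epsE ⟨r, hr⟩ : ℤ) : K) * φ t) := by
  apply Subtype.ext
  change sg φ ((xc RGDTwE6.hp (vec chevE6 6 r) t : ↥(chevE6.group K)) : GL chevE6.Idx K) = _
  rw [coe_xc RGDTwE6.hp hr, coe_xc RGDTwE6.hp (H91.E6Fix.rho_lt r hr)]
  exact H91.E6Fix.sg_xG φ hr t

theorem exists_inc [Fintype K] {φ : K →+* K} {q : ℕ} (hφ : ∀ t, φ t = t ^ q) (hqq : ∀ t : K, (t ^ q) ^ q = t)
    {y : ↥(chevE6.group K)} (hy : sgY φ y = y) : ∃ g : ↥(twistedE6 K q), inc K q g = y := by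
  have h1 : (y : GL chevE6.Idx K) ∈ twistedE6 K q := by
    refine H91.E6Fix.mem_twisted_of_fixed hφ (fun t => by rw [hφ, hφ, hqq]) y.2 ?_
    exact congrArg Subtype.val hy
  exact ⟨⟨y, h1⟩, rfl⟩

theorem sgY_inc [Fintype K] {φ : K →+* K} {q : ℕ} (hφ : ∀ t, φ t = t ^ q) (hqq : ∀ t : K, (t ^ q) ^ q = t)
    (g : ↥(twistedE6 K q)) : sgY φ (inc K q g) = inc K q g := by
  apply Subtype.ext
  exact TwE6Basic.twisted_le_fix φ hφ hqq g.2

/-- the graph automorphism on the nodes -/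
def ga : Fin 6 → Fin 6 := ![5, 1, 4, 3, 2, 0]

theorem ga_ga : ∀ i, ga (ga i) = i := by decide

theorem tab_ga : ∀ i : Fin 6, H91.E6Fix.rho (chevE6.simple i) = chevE6.simple (ga i) ∧
    H91.E6Fix.rho (chevE6.neg (chevE6.simple i)) = chevE6.neg (chevE6.simple (ga i)) ∧
    (∀ h : chevE6.simple i < 72, epsE ⟨chevE6.simple i, h⟩ = 1) ∧
    (∀ h : chevE6.neg (chevE6.simple i) < 72, epsE ⟨chevE6.neg (chevE6.simple i), h⟩ = 1) := by decide +kernel

theorem sgY_pos (φ : K →+* K) (i : Fin 6) (t : K) :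
    sgY φ (xc RGDTwE6.hp (sr i) t) = xc RGDTwE6.hp (sr (ga i)) (φ t) := by
  have hi : chevE6.simple i < 72 := simple_lt RGDTwE6.hp.inList (lt_rank RGDTwE6.hp i)
  obtain ⟨h1, -, h2, -⟩ := tab_ga i
  rw [← vec_simple RGDTwE6.hp i, sgY_xc φ hi, h1, h2, Int.cast_one, one_mul, vec_simple RGDTwE6.hp (ga i)]

theorem sgY_neg (φ : K →+* K) (i : Fin 6) (t : K) :
    sgY φ (xc RGDTwE6.hp (-sr i) t) = xc RGDTwE6.hp (-sr (ga i)) (φ t) := by
  have hi := simple_lt RGDTwE6.hp.inList (lt_rank RGDTwE6.hp i)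
  have hi' := simple_lt RGDTwE6.hp.inList (lt_rank RGDTwE6.hp (ga i))
  obtain ⟨-, h1, -, h2⟩ := tab_ga i
  have hi2 : chevE6.neg (chevE6.simple i) < 72 := neg_lt RGDTwE6.hp.inList hi
  rw [← vec_simple RGDTwE6.hp i, ← vec_neg RGDTwE6.hp hi, sgY_xc φ hi2, h1, h2, Int.cast_one,
    one_mul, vec_neg RGDTwE6.hp hi', vec_simple RGDTwE6.hp (ga i)]

/-! ### Generation by the simple root groups -/

section

variable {D : ChevalleyDatum} {l : ℕ} {M : CoxeterMatrix (Fin l)} (hp : IsType D l M) [Finite K]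

include hp in
theorem gen_simple {H : Subgroup ↥(D.group K)} (h1 : ∀ i t, xc hp (sr i) t ∈ H) (h2 : ∀ i t, xc hp (-sr i) t ∈ H) :
    H = ⊤ := by
  obtain ⟨p, hpc⟩ := CharP.exists K
  have : Fact p.Prime := ⟨(CharP.char_is_prime_or_zero K p).resolve_right (CharP.char_ne_zero_of_finite K p)⟩
  have R := rgd (K := K) hp M.toCoxeterSystem p
  have hX : ∀ i, XX D l K (sr i) ≤ H := by
    intro i y hy
    obtain ⟨t, rfl⟩ := (mem_XX hp (simple_lt hp.inList (lt_rank hp i)) y).1 (by rwa [vec_simple hp i])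
    rw [vec_simple hp i]
    exact h1 i t
  have hn : ∀ i, nc hp K i ∈ H := by
    intro i
    rw [← sl_ww hp i]
    have e : (ww (1 : K) one_ne_zero : SL(2, K)) = uu 1 * vv (-1) * uu 1 := by
      apply Subtype.ext
      change !![(0 : K), 1; -1⁻¹, 0] = !![1, 1; 0, 1] * !![1, 0; -1, 1] * !![1, 1; 0, 1]
      rw [Matrix.mul_fin_two, Matrix.mul_fin_two]
      congr 1
      ext i j
      fin_cases i <;> fin_cases j <;> simp
    rw [e, map_mul, map_mul, sl_uu, sl_vv]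
    exact mul_mem (mul_mem (h1 i _) (h2 i _)) (h1 i _)
  rw [eq_top_iff, ← G1_eq_top hp (M.toCoxeterSystem) (K := K)]
  refine RGD.Sup_le ?_
  rintro _ ⟨w, i, rfl⟩
  induction w using M.toCoxeterSystem.simple_induction_left with
  | one =>
    rw [map_one]
    exact hX i
  | mul_simple_left w j ih =>
    have h3 := R.conj j (rep M.toCoxeterSystem hp.isCartan w (sr i)) ⟨w, i, rfl⟩
    rw [← rep_mul_apply] at h3
    change XX D l K _ ≤ H
    intro y hy
    have hy' : y ∈ cj (nc hp K j) (XX D l K (rep M.toCoxeterSystem hp.isCartan w (sr i))) := by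
      rw [show cj (nc hp K j) (XX D l K (rep M.toCoxeterSystem hp.isCartan w (sr i))) = _ from h3]
      exact hy
    obtain ⟨x, hx, rfl⟩ := hy'
    exact mul_mem (mul_mem (hn j) (ih hx)) (inv_mem (hn j))

include hp in
/-- elements with the same action on the simple root groups are equal -/
theorem ext_simple (hZ : Subgroup.center ↥(D.group K) = ⊥) {y y' : ↥(D.group K)}
    (h1 : ∀ i t, y * xc hp (sr i) t * y⁻¹ = y' * xc hp (sr i) t * y'⁻¹)
    (h2 : ∀ i t, y * xc hp (-sr i) t * y⁻¹ = y' * xc hp (-sr i) t * y'⁻¹) : y = y' := by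
  have h3 : Subgroup.centralizer {y'⁻¹ * y} = (⊤ : Subgroup ↥(D.group K)) := by
    refine gen_simple hp (fun i t => ?_) (fun i t => ?_)
    · rw [Subgroup.mem_centralizer_singleton_iff]
      calc xc hp (sr i) t * (y'⁻¹ * y) = y'⁻¹ * (y' * xc hp (sr i) t * y'⁻¹) * y := by group
        _ = y'⁻¹ * (y * xc hp (sr i) t * y⁻¹) * y := by rw [h1]
        _ = y'⁻¹ * y * xc hp (sr i) t := by group
    · rw [Subgroup.mem_centralizer_singleton_iff]
      calc xc hp (-sr i) t * (y'⁻¹ * y) = y'⁻¹ * (y' * xc hp (-sr i) t * y'⁻¹) * y := by group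
        _ = y'⁻¹ * (y * xc hp (-sr i) t * y⁻¹) * y := by rw [h2]
        _ = y'⁻¹ * y * xc hp (-sr i) t := by group
  have h4 : y'⁻¹ * y ∈ Subgroup.center ↥(D.group K) := by
    rw [Subgroup.mem_center_iff]
    intro g
    have h5 : g ∈ Subgroup.centralizer {y'⁻¹ * y} := by rw [h3]; exact Subgroup.mem_top g
    exact (Subgroup.mem_centralizer_singleton_iff.1 h5)
  rw [hZ, Subgroup.mem_bot] at h4
  calc y = y' * (y'⁻¹ * y) := by group
    _ = y' := by rw [h4, mul_one]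

end

end Cfsg.Agent.H928.Ore.TwE
end

-- part: H928/Ore/TwS
section
set_option linter.all false
open scoped Cfsg.Agent.FastGrp

/-!
Homomorphisms into `²E₆(q)` (S2443, S4171).

* `rv2` : `A ↦ A` with rows and columns reversed, on `SL₂(K)`; `sgY_sl` : the graph automorphism on the images of `SL₂(K)`;
* `s0`, `mm` : the elements of the rank one group of the relative node `3`;
* `exists_f` : the homomorphism `SL₃(k) → ²E₆(q)` of the block `{1, 3}`;
* `exists_z` : an involution of `²E₆(q)` over the longest element.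
-/

set_option autoImplicit false
set_option linter.unusedSectionVars false

namespace Cfsg.Agent.H928.Ore.TwS

open CoxeterSystem Cfsg.Agent.ChevalleyStructure.CoxeterGeom Cfsg.Agent.Tits.Roots Cfsg.Agent.Tits.Core
  Cfsg.Agent.Nodes Cfsg.Agent.Nodes.Reps Cfsg.Agent.Nodes.BNOf Cfsg.Agent.Nodes.RGDLib Cfsg.Agent.Nodes.Bruhat
  Cfsg.Agent.Nodes.OppDec Cfsg.Agent.Nodes.LeviDec Cfsg.Agent.Nodes.StabComb Cfsg.Agent.Nodes.KindChev
  Cfsg.Agent.Nodes.ChevCls
  Cfsg.Agent.OddHalf.NI.ModelChev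
  Cfsg.Agent.H162.GaussDec Cfsg.Agent.H162.GaussLevi Cfsg.Agent.H162.GaussSL Cfsg.Agent.H162.GaussReg
  Cfsg.Agent.H928.Ore.Frame Cfsg.Agent.H928.Ore.Fix Cfsg.Agent.H928.Ore.Block Cfsg.Agent.H928.Ore.TwE
open Cfsg.Lie Cfsg.Agent.ChevalleyStructure Cfsg.Agent.ChevalleyStructure.Elts
  Cfsg.Agent.ChevalleyStructure.NPerm
  Cfsg.Agent.ChevalleyStructure.CoxeterGeomTypes Cfsg.Agent.Nodes.RGDChev Cfsg.Agent.KFacts.RgdChevCoord
open Cfsg.Agent.Nodes.RGDTwGen Cfsg.Agent.Nodes.RGDFold Cfsg.Agent.Nodes.RGDTwE6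
open Cfsg.Agent.Nodes.RGDFoldSL (Fx mem_Fx)
open Cfsg.Agent.ChevalleyStructure.TwistedU Cfsg.Agent.ChevalleyStructure.TwistedFix
open Cfsg.Agent.ChevalleyStructure.TwE6Basic (sg hE6 epsE)
open Cfsg.Agent.FixBN.FieldRGD (uu vv dd ww)
open Cfsg.Agent.H162.GaussExcMain (r6 rt6 chk6'' exists_hom_D w6)
open scoped MatrixGroups

universe u

/-! ### Homomorphisms of `SL_n` -/

section

variable {K : Type*} [Field K] {Y : Type*} [Group Y]

theorem tv01 (c : K) : Matrix.SpecialLinearGroup.transvection (show (0 : Fin 2) ≠ 1 by decide) c = uu c := by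
  apply Subtype.ext
  ext i j
  (revert i j; simp only [Matrix.SpecialLinearGroup.transvection, Matrix.transvection, uu, _root_.Fin.forall_fin_succ, Fin.isValue, _root_.Matrix.add_apply, _root_.Matrix.of_apply, _root_.Matrix.cons_val', _root_.Matrix.cons_val_fin_one, _root_.one_ne_zero, _root_.and_false, _root_.not_false_eq_true, _root_.Matrix.single_apply_of_ne, _root_.add_zero, _root_.Matrix.cons_val_zero, _root_.Matrix.cons_val_succ, _root_.Fin.succ_zero_eq_one, _root_.IsEmpty.forall_iff, _root_.and_true, _root_.Matrix.one_apply_eq, Nat.reduceAdd, _root_.ne_eq, _root_.zero_ne_one, _root_.Matrix.one_apply_ne, _root_.Matrix.single_apply_same, _root_.zero_add, _root_.and_self, _root_.Fin.succ_ne_zero, _root_.true_and])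

theorem tv10 (c : K) : Matrix.SpecialLinearGroup.transvection (show (1 : Fin 2) ≠ 0 by decide) c = vv c := by
  apply Subtype.ext
  ext i j
  (revert i j; simp only [Matrix.SpecialLinearGroup.transvection, Matrix.transvection, vv, _root_.Fin.forall_fin_succ, Fin.isValue, _root_.Matrix.add_apply, _root_.Matrix.of_apply, _root_.Matrix.cons_val', _root_.Matrix.cons_val_fin_one, _root_.Matrix.cons_val_zero, _root_.Matrix.cons_val_succ, _root_.Fin.succ_zero_eq_one, _root_.zero_ne_one, _root_.and_false, _root_.not_false_eq_true, _root_.Matrix.single_apply_of_ne, _root_.add_zero, _root_.IsEmpty.forall_iff, _root_.and_true, _root_.Matrix.one_apply_eq, _root_.one_ne_zero, Nat.reduceAdd, _root_.ne_eq, _root_.Matrix.one_apply_ne, _root_.and_self, _root_.Fin.succ_ne_zero, _root_.zero_add, _root_.Matrix.single_apply_same])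

theorem ext2 {f f' : SL(2, K) →* Y} (h1 : ∀ a, f (uu a) = f' (uu a)) (h2 : ∀ a, f (vv a) = f' (vv a)) : f = f' := by
  refine hom_ext fun i j hij c => ?_
  fin_cases i <;> fin_cases j
  · exact absurd rfl hij
  · exact (congrArg f (tv01 c)).trans ((h1 c).trans (congrArg f' (tv01 c)).symm)
  · exact (congrArg f (tv10 c)).trans ((h2 c).trans (congrArg f' (tv10 c)).symm)
  · exact absurd rfl hij

theorem comm_gen {n : ℕ} {f : Matrix.SpecialLinearGroup (Fin n) K →* Y} {y : Y}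
    (h : ∀ a b (hab : a ≠ b) c, y * f (Matrix.SpecialLinearGroup.transvection hab c) =
      f (Matrix.SpecialLinearGroup.transvection hab c) * y) (A : Matrix.SpecialLinearGroup (Fin n) K) :
    y * f A = f A * y := by
  have h2 : (MulAut.conj y).toMonoidHom.comp f = f := by
    refine hom_ext fun a b hab c => ?_
    change y * f _ * y⁻¹ = f _
    rw [h a b hab c]
    group
  have h3 := DFunLike.congr_fun h2 A
  change y * f A * y⁻¹ = f A at h3
  calc y * f A = (y * f A * y⁻¹) * y := by group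
    _ = f A * y := by rw [h3]

theorem comm_gen2 {f : SL(2, K) →* Y} {y : Y} (h1 : ∀ a, y * f (uu a) = f (uu a) * y)
    (h2 : ∀ a, y * f (vv a) = f (vv a) * y) (A : SL(2, K)) : y * f A = f A * y := by
  refine comm_gen (fun i j hij c => ?_) A
  fin_cases i <;> fin_cases j
  · exact absurd rfl hij
  · have e := congrArg f (tv01 c)
    exact (congrArg (y * ·) e).trans ((h1 c).trans (congrArg (· * y) e).symm)
  · have e := congrArg f (tv10 c)
    exact (congrArg (y * ·) e).trans ((h2 c).trans (congrArg (· * y) e).symm)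
  · exact absurd rfl hij

/-- reversal of rows and columns -/
def rv2 : SL(2, K) →* SL(2, K) where
  toFun A := ⟨!![A.1 1 1, A.1 1 0; A.1 0 1, A.1 0 0], by
    have := A.2
    rw [Matrix.det_fin_two] at this
    rw [Matrix.det_fin_two_of]
    linear_combination this⟩
  map_one' := by
    apply Subtype.ext
    change !![(1 : Matrix (Fin 2) (Fin 2) K) 1 1, (1 : Matrix (Fin 2) (Fin 2) K) 1 0;
      (1 : Matrix (Fin 2) (Fin 2) K) 0 1, (1 : Matrix (Fin 2) (Fin 2) K) 0 0] = 1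
    ext i j
    (revert i j; simp only [_root_.Fin.forall_fin_succ, _root_.Matrix.one_apply_eq, Fin.isValue, _root_.ne_eq, _root_.one_ne_zero, _root_.not_false_eq_true, _root_.Matrix.one_apply_ne, _root_.zero_ne_one, _root_.Matrix.of_apply, _root_.Matrix.cons_val', _root_.Matrix.cons_val_fin_one, _root_.Matrix.cons_val_zero, _root_.Matrix.cons_val_succ, _root_.IsEmpty.forall_iff, _root_.and_true, Nat.reduceAdd, _root_.Fin.succ_zero_eq_one, _root_.and_self, _root_.Fin.succ_ne_zero, _root_.true_and])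
  map_mul' A B := by
    apply Subtype.ext
    change !![(A.1 * B.1) 1 1, (A.1 * B.1) 1 0; (A.1 * B.1) 0 1, (A.1 * B.1) 0 0] =
      !![A.1 1 1, A.1 1 0; A.1 0 1, A.1 0 0] * !![B.1 1 1, B.1 1 0; B.1 0 1, B.1 0 0]
    ext i j
    (revert i j; simp only [Matrix.mul_apply, Fin.sum_univ_two, add_comm, _root_.Fin.forall_fin_succ, Fin.isValue, _root_.Matrix.of_apply, _root_.Matrix.cons_val', _root_.Matrix.cons_val_fin_one, _root_.Matrix.cons_val_zero, _root_.Matrix.cons_val_one, _root_.Matrix.cons_val_succ, _root_.forall_const, _root_.and_self, _root_.implies_true])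

theorem rv2_uu (a : K) : rv2 (uu a) = vv a := by
  apply Subtype.ext
  change !![(1 : K), 0; a, 1] = !![1, 0; a, 1]
  rfl

theorem rv2_vv (a : K) : rv2 (vv a) = uu a := by
  apply Subtype.ext
  change !![(1 : K), a; 0, 1] = !![1, a; 0, 1]
  rfl

theorem rv2_dd (c : K) (hc : c ≠ 0) : rv2 (_root_.Cfsg.Agent.FixBN.FieldRGD.dd c hc) = dd c⁻¹ (inv_ne_zero hc) := by
  apply Subtype.ext
  change !![c⁻¹, 0; 0, c] = !![c⁻¹, 0; 0, c⁻¹⁻¹]
  rw [inv_inv]

theorem rv2_ww : rv2 (ww (1 : K) one_ne_zero) = (ww 1 one_ne_zero)⁻¹ := by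
  apply Subtype.ext
  rw [Matrix.SpecialLinearGroup.coe_inv, Matrix.adjugate_fin_two]
  change !![(0 : K), -1⁻¹; 1, 0] = !![0, -1; - -1⁻¹, 0]
  simp

theorem ww_dd (c : K) (hc : c ≠ 0) :
    ww 1 one_ne_zero * _root_.Cfsg.Agent.FixBN.FieldRGD.dd c hc * (ww 1 one_ne_zero)⁻¹ = dd c⁻¹ (inv_ne_zero hc) := by
  rw [mul_inv_eq_iff_eq_mul]
  apply Subtype.ext
  change !![(0 : K), 1; -1⁻¹, 0] * !![c, 0; 0, c⁻¹] = !![c⁻¹, 0; 0, c⁻¹⁻¹] * !![(0 : K), 1; -1⁻¹, 0]
  rw [Matrix.mul_fin_two, Matrix.mul_fin_two]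
  simp

end

variable {K : Type u} [Field K]

/-! ### The node `3` -/

theorem sgY_sl (φ : K →+* K) (i : Fin 6) (A : SL(2, K)) :
    sgY φ (sl RGDTwE6.hp i A) = sl RGDTwE6.hp (ga i) (Matrix.SpecialLinearGroup.map φ A) := by
  have h : (sgY φ).comp (sl RGDTwE6.hp i) = (sl RGDTwE6.hp (ga i)).comp (Matrix.SpecialLinearGroup.map φ) := by
    refine ext2 (fun a => ?_) (fun a => ?_)
    · have e : Matrix.SpecialLinearGroup.map φ (uu a) = uu (φ a) := by
        apply Subtype.ext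
        change (!![(1 : K), a; 0, 1]).map φ = !![1, φ a; 0, 1]
        ext i j
        (revert i j; simp only [_root_.Fin.forall_fin_succ, _root_.Matrix.map_apply, _root_.Matrix.of_apply, _root_.Matrix.cons_val', _root_.Matrix.cons_val_fin_one, Fin.isValue, _root_.Matrix.cons_val_zero, _root_.Matrix.cons_val_succ, _root_.forall_const, _root_.map_one, _root_.and_self, _root_.map_zero, _root_.implies_true])
      change sgY φ (sl RGDTwE6.hp i (uu a)) = sl RGDTwE6.hp (ga i) (Matrix.SpecialLinearGroup.map φ (uu a))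
      rw [e, sl_uu, sl_uu, sgY_pos]
    · have e : Matrix.SpecialLinearGroup.map φ (vv a) = vv (φ a) := by
        apply Subtype.ext
        change (!![(1 : K), 0; a, 1]).map φ = !![1, 0; φ a, 1]
        ext i j
        (revert i j; simp only [_root_.Fin.forall_fin_succ, _root_.Matrix.map_apply, _root_.Matrix.of_apply, _root_.Matrix.cons_val', _root_.Matrix.cons_val_fin_one, Fin.isValue, _root_.Matrix.cons_val_zero, _root_.Matrix.cons_val_succ, _root_.forall_const, _root_.map_one, _root_.map_zero, _root_.and_self, _root_.implies_true])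
      change sgY φ (sl RGDTwE6.hp i (vv a)) = sl RGDTwE6.hp (ga i) (Matrix.SpecialLinearGroup.map φ (vv a))
      rw [e, sl_vv, sl_vv, sgY_neg]
  exact DFunLike.congr_fun h A

/-- commuting root elements -/
theorem xc_comm {r s : ℕ} (hr : r < 72) (hs : s < 72) (hrs : s ≠ r) (hneg : s ≠ chevE6.neg r)
    (h : chevE6.commTerms r s = []) (t u : K) :
    xc RGDTwE6.hp (vec chevE6 6 s) u * xc RGDTwE6.hp (vec chevE6 6 r) t =
      xc RGDTwE6.hp (vec chevE6 6 r) t * xc RGDTwE6.hp (vec chevE6 6 s) u := by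
  apply Subtype.ext
  rw [Subgroup.coe_mul, Subgroup.coe_mul, coe_xc RGDTwE6.hp hr, coe_xc RGDTwE6.hp hs]
  exact TwE6Basic.comm_of_commTerms hr hs hrs hneg h t u

theorem sim6 : chevE6.simple (0 : Fin 6) = 56 ∧ chevE6.neg 56 = 15 ∧ chevE6.simple (5 : Fin 6) = 36 ∧
    chevE6.neg 36 = 35 := by decide +kernel

theorem sr0 : (sr (0 : Fin 6) : Fin 6 → ℤ) = vec chevE6 6 56 ∧ (-sr (0 : Fin 6) : Fin 6 → ℤ) = vec chevE6 6 15 := by
  obtain ⟨h1, h2, -, -⟩ := sim6
  have h3 := vec_simple RGDTwE6.hp (0 : Fin 6)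
  rw [h1] at h3
  refine ⟨h3.symm, ?_⟩
  rw [← h2, vec_neg RGDTwE6.hp (by decide), h3]

theorem sr5 : (sr (5 : Fin 6) : Fin 6 → ℤ) = vec chevE6 6 36 ∧ (-sr (5 : Fin 6) : Fin 6 → ℤ) = vec chevE6 6 35 := by
  obtain ⟨-, -, h1, h2⟩ := sim6
  have h3 := vec_simple RGDTwE6.hp (5 : Fin 6)
  rw [h1] at h3
  refine ⟨h3.symm, ?_⟩
  rw [← h2, vec_neg RGDTwE6.hp (by decide), h3]

/-- the images for the nodes `0` and `5` commute -/
theorem sl_comm (A B : SL(2, K)) :
    sl RGDTwE6.hp (0 : Fin 6) A * sl RGDTwE6.hp (5 : Fin 6) B = sl RGDTwE6.hp (5 : Fin 6) B * sl RGDTwE6.hp (0 : Fin 6) A := by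
  have key : ∀ r ∈ [56, 15], ∀ s ∈ [36, 35], ∀ t u : K,
      xc RGDTwE6.hp (vec chevE6 6 s) u * xc RGDTwE6.hp (vec chevE6 6 r) t =
        xc RGDTwE6.hp (vec chevE6 6 r) t * xc RGDTwE6.hp (vec chevE6 6 s) u := by
    intro r hr s hs t u
    have h : ∀ r ∈ [56, 15], ∀ s ∈ [36, 35], r < 72 ∧ s < 72 ∧ s ≠ r ∧ s ≠ chevE6.neg r ∧
      chevE6.commTerms r s = [] := by decide +kernel
    obtain ⟨h1, h2, h3, h4, h5⟩ := h r hr s hs
    exact xc_comm h1 h2 h3 h4 h5 t u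
  have g1 : ∀ r ∈ [56, 15], ∀ t : K, ∀ B : SL(2, K), xc RGDTwE6.hp (vec chevE6 6 r) t * sl RGDTwE6.hp (5 : Fin 6) B =
      sl RGDTwE6.hp (5 : Fin 6) B * xc RGDTwE6.hp (vec chevE6 6 r) t := by
    intro r hr t B
    refine comm_gen2 (fun a => ?_) (fun a => ?_) B
    · rw [sl_uu, sr5.1]
      exact (key r hr 36 (by simp) t a).symm
    · rw [sl_vv, sr5.2]
      exact (key r hr 35 (by simp) t a).symm
  refine (comm_gen2 (f := sl RGDTwE6.hp (0 : Fin 6)) (y := sl RGDTwE6.hp (5 : Fin 6) B) (fun a => ?_) (fun a => ?_) A).symm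
  · rw [sl_uu, sr0.1]
    exact (g1 56 (by simp) a B).symm
  · rw [sl_vv, sr0.2]
    exact (g1 15 (by simp) a B).symm

/-- the images for the nodes `0` and `5` commute with the block -/
theorem sl_comm_block {φ : Matrix.SpecialLinearGroup (Fin 3) K →* ↥(chevE6.group K)}
    (hφ : ∀ a b (hab : a ≠ b) c, φ (Matrix.SpecialLinearGroup.transvection hab c) =
      xc RGDTwE6.hp (vec chevE6 6 (r6 a b)) (((1 : ℤ) : K) * c)) {i : Fin 6} (hi : i = 0 ∨ i = 5) (A : SL(2, K))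
    (B : Matrix.SpecialLinearGroup (Fin 3) K) : sl RGDTwE6.hp i A * φ B = φ B * sl RGDTwE6.hp i A := by
  have key : ∀ a b : Fin 3, a ≠ b → ∀ s ∈ [56, 15, 36, 35], ∀ t u : K,
      xc RGDTwE6.hp (vec chevE6 6 s) u * xc RGDTwE6.hp (vec chevE6 6 (r6 a b)) t =
        xc RGDTwE6.hp (vec chevE6 6 (r6 a b)) t * xc RGDTwE6.hp (vec chevE6 6 s) u := by
    intro a b hab s hs t u
    have h : ∀ a b : Fin 3, a ≠ b → ∀ s ∈ [56, 15, 36, 35], r6 a b < 72 ∧ s < 72 ∧ s ≠ r6 a b ∧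
      s ≠ chevE6.neg (r6 a b) ∧ chevE6.commTerms (r6 a b) s = [] := by decide +kernel
    obtain ⟨h1, h2, h3, h4, h5⟩ := h a b hab s hs
    exact xc_comm h1 h2 h3 h4 h5 t u
  have g1 : ∀ s ∈ [56, 15, 36, 35], ∀ t : K, xc RGDTwE6.hp (vec chevE6 6 s) t * φ B =
      φ B * xc RGDTwE6.hp (vec chevE6 6 s) t := by
    intro s hs t
    refine comm_gen (fun a b hab c => ?_) B
    rw [hφ]
    exact key a b hab s hs _ t
  symm
  refine comm_gen2 (fun a => ?_) (fun a => ?_) A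
  · rw [sl_uu]
    rcases hi with rfl | rfl
    · rw [sr0.1]; exact (g1 56 (by simp) a).symm
    · rw [sr5.1]; exact (g1 36 (by simp) a).symm
  · rw [sl_vv]
    rcases hi with rfl | rfl
    · rw [sr0.2]; exact (g1 15 (by simp) a).symm
    · rw [sr5.2]; exact (g1 35 (by simp) a).symm

/-- the semisimple element `h₀(l) h₅(l⁻¹)` -/
noncomputable def s0 (l : Kˣ) : ↥(chevE6.group K) :=
  th RGDTwE6.hp (Pi.mulSingle (0 : Fin 6) l * Pi.mulSingle (5 : Fin 6) l⁻¹)

theorem s0_eq (l : Kˣ) : s0 l = sl RGDTwE6.hp (0 : Fin 6) (_root_.Cfsg.Agent.FixBN.FieldRGD.dd (l : K) l.ne_zero) *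
    sl RGDTwE6.hp (5 : Fin 6) (_root_.Cfsg.Agent.FixBN.FieldRGD.dd ((l⁻¹ : Kˣ) : K) l⁻¹.ne_zero) := by
  unfold s0
  rw [map_mul, th_mulSingle, th_mulSingle]

theorem s0_inv (l : Kˣ) : (s0 l)⁻¹ = s0 l⁻¹ := by
  unfold s0
  rw [← map_inv]
  congr 1
  rw [mul_inv, ← Pi.mulSingle_inv, ← Pi.mulSingle_inv]

theorem sgY_s0 {φ : K →+* K} {l : Kˣ} (hl : φ l * l = 1) : sgY φ (s0 l) = s0 l := by
  have e1 : φ (l : K) = ((l⁻¹ : Kˣ) : K) := by
    rw [Units.val_inv_eq_inv_val]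
    exact eq_inv_of_mul_eq_one_left hl
  have e2 : φ ((l⁻¹ : Kˣ) : K) = (l : K) := by
    rw [Units.val_inv_eq_inv_val, map_inv₀, e1, Units.val_inv_eq_inv_val, inv_inv]
  have e3 : ∀ (c : K) (hc : c ≠ 0), Matrix.SpecialLinearGroup.map φ (_root_.Cfsg.Agent.FixBN.FieldRGD.dd c hc) = _root_.Cfsg.Agent.FixBN.FieldRGD.dd (φ c) ((map_ne_zero φ).2 hc) := by
    intro c hc
    apply Subtype.ext
    change (!![c, 0; 0, c⁻¹]).map φ = !![φ c, 0; 0, (φ c)⁻¹]
    ext i j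
    (revert i j; simp only [_root_.Fin.forall_fin_succ, _root_.Matrix.map_apply, _root_.Matrix.of_apply, _root_.Matrix.cons_val', _root_.Matrix.cons_val_fin_one, Fin.isValue, _root_.Matrix.cons_val_zero, _root_.Matrix.cons_val_succ, _root_.forall_const, _root_.map_zero, _root_.and_self, _root_.map_inv₀, _root_.implies_true])
  rw [s0_eq, map_mul, sgY_sl, sgY_sl, e3, e3]
  change sl RGDTwE6.hp (5 : Fin 6) _ * sl RGDTwE6.hp (0 : Fin 6) _ = _
  rw [← sl_comm]
  congr 2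
  · apply Subtype.ext
    change !![φ ((l⁻¹ : Kˣ) : K), 0; 0, (φ ((l⁻¹ : Kˣ) : K))⁻¹] = !![(l : K), 0; 0, (l : K)⁻¹]
    rw [e2]
  · apply Subtype.ext
    change !![φ (l : K), 0; 0, (φ (l : K))⁻¹] = !![((l⁻¹ : Kˣ) : K), 0; 0, ((l⁻¹ : Kˣ) : K)⁻¹]
    rw [e1]

/-- the product of the reflections of the nodes `0` and `5` -/
noncomputable def mm (K : Type u) [Field K] : ↥(chevE6.group K) :=
  sl RGDTwE6.hp (0 : Fin 6) (ww 1 one_ne_zero) * sl RGDTwE6.hp (5 : Fin 6) (ww 1 one_ne_zero)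

theorem sgY_mm (φ : K →+* K) : sgY φ (mm K) = mm K := by
  have e3 : Matrix.SpecialLinearGroup.map φ (ww (1 : K) one_ne_zero) = ww 1 one_ne_zero := by
    apply Subtype.ext
    change (!![(0 : K), 1; -1⁻¹, 0]).map φ = !![(0 : K), 1; -1⁻¹, 0]
    ext i j
    (revert i j; simp only [_root_.Fin.forall_fin_succ, _root_.inv_one, _root_.Matrix.map_apply, _root_.Matrix.of_apply, _root_.Matrix.cons_val', _root_.Matrix.cons_val_fin_one, Fin.isValue, _root_.Matrix.cons_val_zero, _root_.Matrix.cons_val_succ, _root_.forall_const, _root_.map_zero, _root_.map_one, _root_.and_self, _root_.map_neg, _root_.implies_true])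
  unfold mm
  rw [map_mul, sgY_sl, sgY_sl, e3]
  change sl RGDTwE6.hp (5 : Fin 6) _ * sl RGDTwE6.hp (0 : Fin 6) _ = _
  rw [← sl_comm]

theorem mm_s0 (l : Kˣ) : mm K * s0 l * (mm K)⁻¹ = (s0 l)⁻¹ := by
  rw [s0_inv, s0_eq, s0_eq]
  unfold mm
  set a := sl RGDTwE6.hp (0 : Fin 6) (ww (1 : K) one_ne_zero)
  set b := sl RGDTwE6.hp (5 : Fin 6) (ww (1 : K) one_ne_zero)
  set c := sl RGDTwE6.hp (0 : Fin 6) (_root_.Cfsg.Agent.FixBN.FieldRGD.dd (l : K) l.ne_zero) with hc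
  set d := sl RGDTwE6.hp (5 : Fin 6) (_root_.Cfsg.Agent.FixBN.FieldRGD.dd ((l⁻¹ : Kˣ) : K) l⁻¹.ne_zero) with hd
  have h1 : b * c = c * b := (sl_comm _ _).symm
  have h2 : a * d = d * a := sl_comm _ _
  have h3 : a * c * a⁻¹ = sl RGDTwE6.hp (0 : Fin 6) (dd ((l⁻¹ : Kˣ) : K) l⁻¹.ne_zero) := by
    rw [hc, ← map_inv, ← map_mul, ← map_mul, ww_dd]
    congr 1
    apply Subtype.ext
    change !![(l : K)⁻¹, 0; 0, (l : K)⁻¹⁻¹] = !![((l⁻¹ : Kˣ) : K), 0; 0, ((l⁻¹ : Kˣ) : K)⁻¹]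
    rw [Units.val_inv_eq_inv_val]
  have h4 : b * d * b⁻¹ = sl RGDTwE6.hp (5 : Fin 6) (_root_.Cfsg.Agent.FixBN.FieldRGD.dd ((l⁻¹⁻¹ : Kˣ) : K) l⁻¹⁻¹.ne_zero) := by
    rw [hd, ← map_inv, ← map_mul, ← map_mul, ww_dd]
    congr 1
    apply Subtype.ext
    change !![((l⁻¹ : Kˣ) : K)⁻¹, 0; 0, ((l⁻¹ : Kˣ) : K)⁻¹⁻¹] = !![((l⁻¹⁻¹ : Kˣ) : K), 0; 0, ((l⁻¹⁻¹ : Kˣ) : K)⁻¹]
    rw [Units.val_inv_eq_inv_val, Units.val_inv_eq_inv_val, Units.val_inv_eq_inv_val]
  have h5 : a * b = b * a := sl_comm _ _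
  have h6 : a * (b * d * b⁻¹) * a⁻¹ = b * d * b⁻¹ := by
    rw [h4, show a * sl RGDTwE6.hp (5 : Fin 6) (_root_.Cfsg.Agent.FixBN.FieldRGD.dd ((l⁻¹⁻¹ : Kˣ) : K) l⁻¹⁻¹.ne_zero) =
      sl RGDTwE6.hp (5 : Fin 6) (_root_.Cfsg.Agent.FixBN.FieldRGD.dd ((l⁻¹⁻¹ : Kˣ) : K) l⁻¹⁻¹.ne_zero) * a from sl_comm _ _]
    group
  calc a * b * (c * d) * (a * b)⁻¹ = a * (b * c) * (d * b⁻¹) * a⁻¹ := by group
    _ = (a * c * a⁻¹) * (a * (b * d * b⁻¹) * a⁻¹) := by rw [h1]; group
    _ = _ := by rw [h6, h3, h4]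

end Cfsg.Agent.H928.Ore.TwS

private theorem dce_d0bbc6710329 : _root_.True := by
  try have : _root_.True := by simp only [_root_.Cfsg.Agent.OddHalf.NI.ModelChev.sl.congr_simp]
  try have : _root_.True := by simp only [_root_.Cfsg.Agent.FixBN.FieldRGD.dd.congr_simp]
  exact _root_.True.intro
end

-- part: H374/Ore/Nf
section
set_option linter.all false
open scoped Cfsg.Agent.FastGrp

/-!
# Fixed points of `s₀ φ(X)` after extension of scalars (S2443, S4171)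

* `bc_phi`, `bc_sl`, `bc_th` : the base change on the blocks, on the rank one subgroups and on the torus;
* `nf_dg` : `ι X = P diag P⁻¹` with eigenvalues outside `K`: `s₀ φ(X)` has no fixed points on `V_J`, `V_J⁻`.
-/

set_option autoImplicit false
set_option linter.unusedSectionVars false

namespace Cfsg.Agent.H374.Ore.Nf

open CoxeterSystem Cfsg.Agent.ChevalleyStructure.CoxeterGeom Cfsg.Agent.Tits.Roots Cfsg.Agent.Tits.Core
  Cfsg.Agent.Nodes.Reps Cfsg.Agent.Nodes.BNOf Cfsg.Agent.Nodes.RGDLib Cfsg.Agent.Nodes.Bruhat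
  Cfsg.Agent.Nodes.OppDec Cfsg.Agent.Nodes.LeviDec Cfsg.Agent.Nodes.KindChev Cfsg.Agent.Nodes.ChevCls
  Cfsg.Agent.OddHalf.NI.ModelChev Cfsg.Agent.Nodes.StabComb
  Cfsg.Agent.H162.GaussDec Cfsg.Agent.H162.GaussLevi Cfsg.Agent.H162.GaussSL Cfsg.Agent.H162.GaussReg
  Cfsg.Agent.H928.Ore.Frame Cfsg.Agent.H928.Ore.Fix Cfsg.Agent.H928.Ore.Block
open Cfsg.Lie Cfsg.Agent.ChevalleyStructure Cfsg.Agent.ChevalleyStructure.Elts
  Cfsg.Agent.ChevalleyStructure.RootVec Cfsg.Agent.ChevalleyStructure.NPerm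
  Cfsg.Agent.ChevalleyStructure.CoxeterGeomTypes Cfsg.Agent.Nodes.RGDChev Cfsg.Agent.KFacts.RgdChevCoord
open Cfsg.Agent.FixBN.FieldRGD (uu vv dd ww)

universe u v

variable {D : ChevalleyDatum} {l : ℕ} {M : CoxeterMatrix (Fin l)} (hp : IsType D l M) {K : Type u} {K' : Type v}
  [Field K] [Field K'] (ι : K →+* K')

theorem map_transvection {n : ℕ} {a b : Fin n} (hab : a ≠ b) (c : K) :
    Matrix.SpecialLinearGroup.map ι (Matrix.SpecialLinearGroup.transvection hab c) =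
      Matrix.SpecialLinearGroup.transvection hab (ι c) := by
  apply Subtype.ext
  change (1 + Matrix.single a b c).map ι = 1 + Matrix.single a b (ι c)
  rw [Matrix.map_add ι (map_add ι), Matrix.map_one ι (map_zero ι) (map_one ι)]
  congr 1
  ext i j
  rw [Matrix.map_apply, Matrix.single_apply, Matrix.single_apply]
  split_ifs <;> simp

include hp in
/-- the base change of a block -/
theorem bc_phi {n : ℕ} {r : Fin n → Fin n → ℕ} {ε : ℤ} (hr : ∀ a b, a ≠ b → r a b < D.nroots)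
    {φ : Matrix.SpecialLinearGroup (Fin n) K →* ↥(D.group K)}
    (hφ : ∀ a b (hab : a ≠ b) c, φ (Matrix.SpecialLinearGroup.transvection hab c) =
      xc hp (vec D l (r a b)) ((ε : K) * c))
    {φ' : Matrix.SpecialLinearGroup (Fin n) K' →* ↥(D.group K')}
    (hφ' : ∀ a b (hab : a ≠ b) c, φ' (Matrix.SpecialLinearGroup.transvection hab c) =
      xc hp (vec D l (r a b)) ((ε : K') * c)) (X : Matrix.SpecialLinearGroup (Fin n) K) :
    bc D ι (φ X) = φ' (Matrix.SpecialLinearGroup.map ι X) := by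
  have h : (bc D ι).comp φ = φ'.comp (Matrix.SpecialLinearGroup.map ι) := by
    refine hom_ext fun a b hab c => ?_
    change bc D ι (φ _) = φ' (Matrix.SpecialLinearGroup.map ι _)
    rw [hφ, bc_xc hp ι (hr a b hab), map_transvection, hφ', map_mul, map_intCast]
  exact DFunLike.congr_fun h X

theorem tv_uu {F : Type*} [Field F] (h : (0 : Fin 2) ≠ 1) (c : F) :
    Matrix.SpecialLinearGroup.transvection h c = uu c := by
  apply Subtype.ext
  ext i j
  fin_cases i <;> fin_cases j <;> simp [Matrix.SpecialLinearGroup.transvection, Matrix.transvection, uu]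

theorem tv_vv {F : Type*} [Field F] (h : (1 : Fin 2) ≠ 0) (c : F) :
    Matrix.SpecialLinearGroup.transvection h c = vv c := by
  apply Subtype.ext
  ext i j
  fin_cases i <;> fin_cases j <;> simp [Matrix.SpecialLinearGroup.transvection, Matrix.transvection, vv]

/-- the base change of the rank one subgroups -/
theorem bc_sl (i : Fin l) (A : Matrix.SpecialLinearGroup (Fin 2) K) :
    bc D ι (sl hp i A) = sl hp i (Matrix.SpecialLinearGroup.map ι A) := by
  have hi := simple_lt hp.inList (lt_rank hp i)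
  have hn : D.neg (D.simple i) < D.nroots := neg_lt hp.inList hi
  have h : (bc D ι).comp (sl hp i) = (sl hp i).comp (Matrix.SpecialLinearGroup.map ι) := by
    refine hom_ext fun a b hab c => ?_
    change bc D ι (sl hp i _) = sl hp i (Matrix.SpecialLinearGroup.map ι _)
    rw [map_transvection]
    fin_cases a <;> fin_cases b
    · exact absurd rfl hab
    · rw [tv_uu, tv_uu, sl_uu, sl_uu, ← vec_simple hp i, bc_xc hp ι hi]
    · rw [tv_vv, tv_vv, sl_vv, sl_vv, ← vec_simple hp i, ← vec_neg hp hi, bc_xc hp ι hn]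
    · exact absurd rfl hab
  exact DFunLike.congr_fun h A

theorem bc_th (t : Fin l → Kˣ) : bc D ι (th hp t) = th hp fun i => Units.map (ι : K →* K') (t i) := by
  have key : ∀ t : Fin l → Kˣ, (bc D ι (th hp t) = th hp fun i => Units.map (ι : K →* K') (t i)) := by
    intro t
    rw [← Finset.univ_prod_mulSingle t]
    refine Finset.prod_induction (fun i => Pi.mulSingle i (t i))
      (fun s : Fin l → Kˣ => bc D ι (th hp s) = th hp fun i => Units.map (ι : K →* K') (s i)) ?_ ?_ ?_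
    · intro a b ha hb
      have e : (fun i => Units.map (ι : K →* K') ((a * b) i)) =
          (fun i => Units.map (ι : K →* K') (a i)) * fun i => Units.map (ι : K →* K') (b i) := by
        funext i
        exact map_mul _ _ _
      rw [map_mul, map_mul, ha, hb, e, map_mul]
    · have e : (fun i : Fin l => Units.map (ι : K →* K') ((1 : Fin l → Kˣ) i)) = 1 := by
        funext i
        exact map_one _
      rw [map_one, map_one, e, map_one]
    · intro i _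
      have e : (fun j : Fin l => Units.map (ι : K →* K') ((Pi.mulSingle i (t i) : Fin l → Kˣ) j)) =
          Pi.mulSingle i (Units.map (ι : K →* K') (t i)) := by
        funext j
        by_cases hj : j = i
        · subst hj
          rw [Pi.mulSingle_eq_same, Pi.mulSingle_eq_same]
        · rw [Pi.mulSingle_eq_of_ne hj, Pi.mulSingle_eq_of_ne hj, map_one]
      rw [e, th_mulSingle, th_mulSingle, bc_sl]
      congr 1
      apply Subtype.ext
      change (!![((t i : Kˣ) : K), 0; 0, ((t i : Kˣ) : K)⁻¹]).map ι = !![ι (t i), 0; 0, (ι (t i))⁻¹]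
      ext a b
      fin_cases a <;> fin_cases b <;> simp
  exact key t

/-- the weights of the natural module of `SL_3` and of its dual -/
def Wt (c d : ℤ) : Prop :=
  (c = 1 ∧ d = 0) ∨ (c = -1 ∧ d = 1) ∨ (c = 0 ∧ d = -1) ∨ (c = -1 ∧ d = 0) ∨ (c = 1 ∧ d = -1) ∨ (c = 0 ∧ d = 1)

instance (c d : ℤ) : Decidable (Wt c d) := by unfold Wt; infer_instance

theorem wt_ne {a b : K'ˣ} (h1 : (a : K') ∉ Set.range ι) (h2 : ((a⁻¹ * b : K'ˣ) : K') ∉ Set.range ι)
    (h3 : ((b⁻¹ : K'ˣ) : K') ∉ Set.range ι) {c d : ℤ} (h : Wt c d) (u : K) :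
    ι u * ((a : K') ^ c * (b : K') ^ d) ≠ 1 := by
  have ha : (a : K') ≠ 0 := a.ne_zero
  have hb : (b : K') ≠ 0 := b.ne_zero
  rw [Units.val_inv_eq_inv_val] at h3
  rw [Units.val_mul, Units.val_inv_eq_inv_val] at h2
  intro e
  have hu : ι u ≠ 0 := fun h0 => by rw [h0, zero_mul] at e; exact zero_ne_one e
  have e1 : ι u⁻¹ = (a : K') ^ c * (b : K') ^ d := by
    rw [map_inv₀]
    exact (eq_inv_of_mul_eq_one_right e).symm
  rcases h with ⟨rfl, rfl⟩ | ⟨rfl, rfl⟩ | ⟨rfl, rfl⟩ | ⟨rfl, rfl⟩ | ⟨rfl, rfl⟩ | ⟨rfl, rfl⟩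
  · refine h1 ⟨u⁻¹, ?_⟩
    rw [e1, zpow_one, zpow_zero, mul_one]
  · refine h2 ⟨u⁻¹, ?_⟩
    rw [e1, zpow_one, zpow_neg_one]
  · refine h3 ⟨u⁻¹, ?_⟩
    rw [e1, zpow_zero, zpow_neg_one, one_mul]
  · refine h1 ⟨u, ?_⟩
    rw [← inv_inv (ι u), ← map_inv₀, e1, zpow_zero, zpow_neg_one, mul_one, inv_inv]
  · refine h2 ⟨u, ?_⟩
    rw [← inv_inv (ι u), ← map_inv₀, e1, zpow_one, zpow_neg_one, mul_inv, inv_inv]
  · refine h3 ⟨u, ?_⟩
    rw [← inv_inv (ι u), ← map_inv₀, e1, zpow_zero, zpow_one, one_mul]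

/-- **No fixed points, eigenvalues outside the field.** -/
theorem nf_dg [Finite K'] {r : Fin 3 → Fin 3 → ℕ} {ε : ℤ} (hε : ε * ε = 1) (hr : ∀ a b, a ≠ b → r a b < D.nroots)
    (hneg : ∀ a b, a ≠ b → r b a = D.neg (r a b)) {φ : Matrix.SpecialLinearGroup (Fin 3) K →* ↥(D.group K)}
    (hφ : ∀ a b (hab : a ≠ b) c, φ (Matrix.SpecialLinearGroup.transvection hab c) =
      xc hp (vec D l (r a b)) ((ε : K) * c))
    {φ' : Matrix.SpecialLinearGroup (Fin 3) K' →* ↥(D.group K')}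
    (hφ' : ∀ a b (hab : a ≠ b) c, φ' (Matrix.SpecialLinearGroup.transvection hab c) =
      xc hp (vec D l (r a b)) ((ε : K') * c)) {i j : Fin l} (hi : r 0 1 = D.simple i) (hj : r 1 2 = D.simple j)
    {J : Set (Fin l)} (hJ : ∀ a b, a ≠ b → ∀ k, k ∉ J → vec D l (r a b) k = 0) {σ : Fin l → Kˣ}
    (hσ : ∀ a b, a ≠ b → ∏ k : Fin l, ((σ k : Kˣ) : K) ^ D.cartan k (r a b) = 1)
    (htab : ∀ s < D.nroots, (∃ k, k ∉ J ∧ vec D l s k ≠ 0) → (D.cartan i s = 0 ∧ D.cartan j s = 0 ∧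
      ∏ k : Fin l, ((σ k : Kˣ) : K) ^ D.cartan k s ≠ 1) ∨ Wt (D.cartan i s) (D.cartan j s))
    {X : Matrix.SpecialLinearGroup (Fin 3) K} {P : Matrix.SpecialLinearGroup (Fin 3) K'} {a b : K'ˣ}
    (hX : Matrix.SpecialLinearGroup.map ι X = P * dg3 a b * P⁻¹) (h1 : (a : K') ∉ Set.range ι)
    (h2 : ((a⁻¹ * b : K'ˣ) : K') ∉ Set.range ι) (h3 : ((b⁻¹ : K'ˣ) : K') ∉ Set.range ι) :
    NF (VJ M.toCoxeterSystem hp.isCartan (XX D l K) J) (th hp σ * φ X) ∧
      NF (VNJ M.toCoxeterSystem hp.isCartan (XX D l K) J) (th hp σ * φ X) := by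
  have hprod : ∀ s, ∏ k : Fin l, (((Units.map (ι : K →* K') (σ k) : K'ˣ)) : K') ^ D.cartan k s =
      ι (∏ k : Fin l, ((σ k : Kˣ) : K) ^ D.cartan k s) := by
    intro s
    rw [map_prod]
    refine Finset.prod_congr rfl fun k _ => ?_
    rw [map_zpow₀]
    rfl
  obtain ⟨g1, g2⟩ := nf_block hp (K := K') hε hr hneg hφ' hi hj hJ
    (σ := fun k => Units.map (ι : K →* K') (σ k)) (fun a b hab => by rw [hprod, hσ a b hab, map_one])
    (a := a) (b := b) (fun s hs hk => by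
      rw [hprod]
      rcases htab s hs hk with ⟨e1, e2, e3⟩ | h
      · rw [e1, e2, zpow_zero, zpow_zero, mul_one, mul_one]
        intro h
        exact e3 (ι.injective (by rw [h, map_one]))
      · exact wt_ne ι h1 h2 h3 h _) hX
  have e : bc D ι (th hp σ * φ X) = th hp (fun k => Units.map (ι : K →* K') (σ k)) *
      φ' (Matrix.SpecialLinearGroup.map ι X) := by
    rw [map_mul, bc_th, bc_phi hp ι hr hφ hφ']
  rw [← e] at g1 g2
  exact ⟨NF.of_hom _ (bc_injective D ι) (VJ_le_comap hp ι J) g1, NF.of_hom _ (bc_injective D ι) (VNJ_le_comap hp ι J) g2⟩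

end Cfsg.Agent.H374.Ore.Nf
end
end
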